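import Cfsg.Agent.Lib.BenderOne20.RankOne
import Cfsg.Agent.Lib.BenderOne20.Setting
import Cfsg.Agent.Lib.IsolatedInvolution.InvariantSylow
import Cfsg.Agent.Lib.OddOrder.FeitThompson

/-!
# Bender's theorem, part I, node B: midpoints (MID)

Let `N` have no two commuting involutions, let `u` be an involution of `N` with fixed point `c`
which is moved by `N`.  Some subgroup of odd order, normal in `N`, has an orbit `B` through `c`
on which it acts as an abelian group, so any two points of `B` have exactly one midpoint in `B`.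
-/

set_option autoImplicit false
set_option linter.style.haveILetI false

namespace Cfsg.Agent.Lib.BenderOne.Midpoint

open MulAction
open scoped commutatorElement
open Cfsg.Agent.Lib.Involutions.Basic Cfsg.Agent.Lib.BenderOne20

variable {G Ω : Type*} [Group G] [MulAction G Ω]

/-- `B` is a block of `N` through the fixed point `c` of `u` in which midpoints are unique. -/
structure Mid (N : Subgroup G) (u : G) (c : Ω) (B : Set Ω) : Prop where
  mem : c ∈ B
  exists_ne : ∃ x ∈ B, x ≠ c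
  smul_mem : ∀ g ∈ N, ∀ x ∈ B, g • x ∈ B → ∀ y ∈ B, g • y ∈ B
  exists_mid : ∀ x ∈ B, ∀ y ∈ B,
    ∃ r ∈ N, (∀ z ∈ B, r • z ∈ B) ∧ r * u * r⁻¹ ∈ invAt G (r • c) ∧ (r * u * r⁻¹) • x = y
  unique : ∀ x ∈ B, ∀ z ∈ B, ∀ z' ∈ B, ∀ w ∈ N, ∀ w' ∈ N, w ∈ invAt G z → w' ∈ invAt G z' →
    w • x = w' • x → z = z'

namespace Mid

variable {N : Subgroup G} {u : G} {c : Ω} {B : Set Ω} (hB : Mid N u c B)
include hB

/-- An involution of `N` fixing a point of the block stabilises the block. -/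
theorem smul_invol_mem {w : G} (hwN : w ∈ N) {z : Ω} (hz : z ∈ B) (hw : w ∈ invAt G z) {x : Ω}
    (hx : x ∈ B) : w • x ∈ B :=
  hB.smul_mem w hwN z hz (by rw [hw.2]; exact hz) x hx

/-- An element of `N` fixing two points of the block fixes their midpoint. -/
theorem smul_mid {g w : G} (hgN : g ∈ N) (hwN : w ∈ N) {x z : Ω} (hx : x ∈ B) (hz : z ∈ B)
    (hw : w ∈ invAt G z) (hgx : g • x = x) (hgy : g • (w • x) = w • x) : g • z = z := by
  refine hB.unique x hx (g • z) (hB.smul_mem g hgN x hx (by rw [hgx]; exact hx) z hz) z hz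
    (g * w * g⁻¹) (mul_mem (mul_mem hgN hwN) (inv_mem hgN)) w hwN
    (OneFix.conj_mem_invAt hw) hw ?_
  rw [mul_smul, mul_smul, show g⁻¹ • x = x by rw [inv_smul_eq_iff, hgx], hgy]

/-- The fixed point of `u` is fixed by what fixes two points of the block swapped by `u`. -/
theorem smul_center (hu : u ∈ invAt G c) (huN : u ∈ N) {g : G} (hgN : g ∈ N) {x : Ω}
    (hx : x ∈ B) (hgx : g • x = x) (hgy : g • (u • x) = u • x) : g • c = c :=
  hB.smul_mid hgN huN hx hB.mem hu hgx hgy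

/-- The midpoint of `c` and another point of the block, with its swapper. -/
theorem exists_next (huN : u ∈ N) {x : Ω} (hx : x ∈ B) (hxc : x ≠ c) :
    ∃ d ∈ B, ∃ w ∈ N, w ∈ invAt G d ∧ w ∈ swapSet G c x ∧ d ≠ c ∧ d ≠ x := by
  obtain ⟨r, hrN, hrB, hw, hwx⟩ := hB.exists_mid c hB.mem x hx
  refine ⟨r • c, hrB c hB.mem, _, mul_mem (mul_mem hrN huN) (inv_mem hrN), hw, ⟨hw.1, hwx⟩,
    fun h => hxc ?_, fun h => hxc ?_⟩
  · rw [← hwx]
    nth_rewrite 1 [← h]
    rw [hw.2, h]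
  · rw [← smul_swap (⟨hw.1, hwx⟩ : r * u * r⁻¹ ∈ swapSet G c x)]
    nth_rewrite 2 [← h]
    rw [hw.2, h]

end Mid

variable [Finite G]

/-- The layer of the derived series of the core used for the midpoints. -/
theorem exists_layer (hG : OneFix G Ω) {N : Subgroup G}
    (hone : ∀ a ∈ N, ∀ b ∈ N, orderOf a = 2 → orderOf b = 2 → a * b = b * a → a = b)
    {c : Ω} {u : G} (hu : u ∈ invAt G c) (huN : u ∈ N) (hmove : ∃ g ∈ N, g • c ≠ c) :
    ∃ R : Subgroup G, R ≤ N ∧ Odd (Nat.card R) ∧ (∀ g ∈ N, ∀ r ∈ R, g * r * g⁻¹ ∈ R) ∧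
      (∃ r ∈ R, r • c ≠ c) ∧ ∀ r ∈ R, ∀ s ∈ R, ∀ t ∈ R, (r * s * t) • c = (s * r * t) • c := by
  set O : Subgroup G := (Cfsg.oddCore ↥N).map N.subtype with hOdef
  have hiso : Cfsg.IsIsolatedInvolution (⟨u, huN⟩ : N) := by
    refine ⟨(Subgroup.orderOf_mk u huN).trans hu.1, fun g h => Subtype.ext ?_⟩
    exact (hone u huN _ (mul_mem (mul_mem g.2 huN) (inv_mem g.2)) hu.1
      ((orderOf_conj_eq _ _).trans hu.1) (congrArg Subtype.val h.eq :)).symm
  have hOodd : Odd (Nat.card O) := by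
    rw [hOdef, Nat.card_congr (Subgroup.equivMapOfInjective _ _ N.subtype_injective).symm.toEquiv]
    exact oddCore_odd
  have hOconj : ∀ g ∈ N, O.map (MulAut.conj g).toMonoidHom = O := by
    intro g hg
    refine Subgroup.eq_of_le_of_card_ge ?_
      (le_of_eq (Subgroup.card_map_of_injective (MulAut.conj g).injective).symm)
    rintro _ ⟨_, ⟨x, hx, rfl⟩, rfl⟩
    exact ⟨_, (inferInstance : (Cfsg.oddCore ↥N).Normal).conj_mem x hx ⟨g, hg⟩, rfl⟩
  have hOmove : ∃ r ∈ O, r • c ≠ c := by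
    obtain ⟨g, hg, hgc⟩ := hmove
    refine ⟨u * (g * u⁻¹ * g⁻¹), ⟨⟨u * (g * u⁻¹ * g⁻¹), mul_mem huN
      (mul_mem (mul_mem hg (inv_mem huN)) (inv_mem hg))⟩, ?_, rfl⟩, fun h => ?_⟩
    · have := IsolatedInvolution.InvariantSylow.commutator_mem hiso ⟨g, hg⟩
      rw [SetLike.mem_coe]
      convert this using 1
      exact Subtype.ext (by simp only [Subgroup.coe_mul, Subgroup.coe_inv, mul_assoc])
    · rw [invol_inv hu.1, mul_smul, smul_eq_iff_eq_inv_smul, invol_inv hu.1, hu.2] at h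
      exact hgc (hG.eq_of_fix ((orderOf_conj_eq g u).trans hu.1) h
        (OneFix.conj_mem_invAt hu).2).symm
  set S : Set (Subgroup G) :=
    {R | R ≤ O ∧ (∀ g ∈ N, R.map (MulAut.conj g).toMonoidHom = R) ∧ ∃ r ∈ R, r • c ≠ c}
  obtain ⟨R, ⟨hRO, hRconj, hRmove⟩, hmin⟩ :=
    S.toFinite.exists_minimal ⟨O, le_rfl, hOconj, hOmove⟩
  have hRN : R ≤ N := hRO.trans (Subgroup.map_subtype_le _)
  have hRodd : Odd (Nat.card R) := hOodd.of_dvd_nat (Subgroup.card_dvd_of_le hRO)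
  haveI := OddOrder.FeitThompson.isSolvable_of_odd_card (G := R) hRodd
  haveI : Nontrivial R := by
    obtain ⟨r, hr, hrc⟩ := hRmove
    exact ⟨⟨r, hr⟩, 1, fun h => hrc (by rw [show r = 1 from congrArg Subtype.val h, one_smul])⟩
  have hlt : ⁅R, R⁆ < R := by
    rw [← Subgroup.map_subtype_commutator]
    refine lt_of_lt_of_eq (Subgroup.map_lt_map_iff_of_injective R.subtype_injective |>.2
      (Group.IsSolvable.commutator_lt_top_of_nontrivial R)) ?_
    rw [← MonoidHom.range_eq_map, Subgroup.range_subtype]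
  have hRfix : ∀ k ∈ ⁅R, R⁆, k • c = c := by
    by_contra h
    push Not at h
    refine hlt.not_ge (hmin ⟨hlt.le.trans hRO, fun g hg => ?_, h⟩ hlt.le)
    rw [Subgroup.map_commutator, hRconj g hg]
  refine ⟨R, hRN, hRodd, fun g hg r hr => ?_, hRmove, fun r hr s hs t ht => ?_⟩
  · rw [← hRconj g hg]
    exact ⟨r, hr, rfl⟩
  · have hk : t⁻¹ * ⁅r⁻¹, s⁻¹⁆ * t ∈ ⁅R, R⁆ := by
      have h1 := Subgroup.mem_map_of_mem (MulAut.conj t⁻¹).toMonoidHom
        (Subgroup.commutator_mem_commutator (inv_mem hr) (inv_mem hs))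
      rw [Subgroup.map_commutator, hRconj t⁻¹ (inv_mem (hRN ht))] at h1
      rw [show t⁻¹ * ⁅r⁻¹, s⁻¹⁆ * t = (MulAut.conj t⁻¹).toMonoidHom ⁅r⁻¹, s⁻¹⁆ by
        simp only [MulEquiv.coe_toMonoidHom, MulAut.conj_apply, inv_inv]]
      exact h1
    calc (r * s * t) • c = (s * r * t * (t⁻¹ * ⁅r⁻¹, s⁻¹⁆ * t)) • c := by
          congr 1; rw [commutatorElement_def]; group
      _ = (s * r * t) • c := by rw [mul_smul (s * r * t), hRfix _ hk]

/-- (MID), with the subgroup whose orbit is the block. -/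
theorem exists_mid_orbit (hG : OneFix G Ω) {N : Subgroup G}
    (hone : ∀ a ∈ N, ∀ b ∈ N, orderOf a = 2 → orderOf b = 2 → a * b = b * a → a = b)
    {c : Ω} {u : G} (hu : u ∈ invAt G c) (huN : u ∈ N) (hmove : ∃ g ∈ N, g • c ≠ c) :
    ∃ R : Subgroup G, R ≤ N ∧ Odd (Nat.card R) ∧ (∃ r ∈ R, r • c ≠ c) ∧
      (∀ r ∈ R, u • r • c = r⁻¹ • c) ∧ Mid N u c {x : Ω | ∃ s ∈ R, s • c = x} := by
  obtain ⟨R, hRN, hodd, hconj, ⟨a, ha, hac⟩, hcomm⟩ := exists_layer hG hone hu huN hmove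
  set B : Set Ω := {x | ∃ s ∈ R, s • c = x}
  have hswap : ∀ {r s : G}, r ∈ R → s ∈ R → r • s • c = s • r • c := fun {r s} hr hs => by
    have h := hcomm r hr s hs 1 (one_mem R)
    rwa [mul_one, mul_one, mul_smul, mul_smul] at h
  have hRB : ∀ {r : G}, r ∈ R → ∀ z ∈ B, r • z ∈ B := by
    rintro r hr _ ⟨s, hs, rfl⟩
    exact ⟨r * s, mul_mem hr hs, mul_smul r s c⟩
  -- an involution fixing a point of `B` inverts the action on `B`
  have hinv : ∀ {w : G}, w ∈ N → ∀ {t : G}, t ∈ R → w ∈ invAt G (t • c) → ∀ {r : G}, r ∈ R →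
      w • (r • t • c) = r⁻¹ • t • c := by
    intro w hwN t ht hw r hr
    set r' := w * r * w⁻¹ with hr'
    have hr'R : r' ∈ R := hconj w hwN r hr
    have hw' : ∀ z : Ω, w • w • z = z := fun z => by
      rw [smul_smul, invol_mul_self hw.1, one_smul]
    have h1 : ∀ z : Ω, r' • z = w • r • w • z := fun z => by
      rw [hr', invol_inv hw.1, mul_smul, mul_smul]
    have hc' : r • r' • t • c = r' • r • t • c := by
      have h := hcomm r hr r' hr'R t ht
      simpa only [← mul_smul, ← mul_assoc] using h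
    have h2 : r' • t • c = w • r • t • c := by rw [h1, hw.2]
    have h3 : w • r • r' • t • c = r • r' • t • c := by
      calc w • r • r' • t • c = w • r • w • r • t • c := by rw [h2]
        _ = r' • r • t • c := (h1 _).symm
        _ = r • r' • t • c := hc'.symm
    have h4 := hG.eq_of_fix hw.1 h3 hw.2
    rw [← h2, eq_inv_smul_iff, h4]
  have hsq : ∀ {r : G}, r ∈ R → r • r • c = c → r • c = c := by
    intro r hr h
    obtain ⟨k, hk⟩ := hodd.of_dvd_nat (Subgroup.orderOf_dvd_natCard _ hr)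
    have e : r = (r * r) ^ (k + 1) := by
      rw [← pow_two, ← pow_mul, show 2 * (k + 1) = orderOf r + 1 by omega, pow_succ,
        pow_orderOf_eq_one, one_mul]
    have hm : r * r ∈ stabilizer G c := mem_stabilizer_iff.2 (by rw [mul_smul, h])
    rw [e]
    exact (pow_mem hm (k + 1) :)
  refine ⟨R, hRN, hodd, ⟨a, ha, hac⟩, fun r hr => ?_,
    ⟨1, one_mem R, one_smul G c⟩, ⟨a • c, ⟨a, ha, rfl⟩, hac⟩, ?_, ?_, ?_⟩
  · have h := hinv huN (one_mem R) (by rw [one_smul]; exact hu) hr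
    rwa [one_smul] at h
  · rintro g hg x ⟨s, hs, rfl⟩ hgx _ ⟨p, hp, rfl⟩
    have : g • p • c = (g * (p * s⁻¹) * g⁻¹) • g • s • c := by
      rw [mul_smul, inv_smul_smul, mul_smul, mul_smul, inv_smul_smul]
    rw [this]
    exact hRB (hconj g hg _ (mul_mem hp (inv_mem hs))) _ hgx
  · rintro _ ⟨s, hs, rfl⟩ _ ⟨t, ht, rfl⟩
    obtain ⟨k, hk⟩ := hodd.of_dvd_nat (Subgroup.orderOf_dvd_natCard _ (mul_mem hs ht))
    set r := (s * t) ^ (k + 1) with hr
    have hrR : r ∈ R := pow_mem (mul_mem hs ht) _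
    have hr2 : r * r = s * t := by
      rw [hr, ← pow_add, show k + 1 + (k + 1) = orderOf (s * t) + 1 by omega, pow_succ,
        pow_orderOf_eq_one, one_mul]
    refine ⟨r, hRN hrR, hRB hrR, OneFix.conj_mem_invAt hu, ?_⟩
    have h := hinv (mul_mem (mul_mem (hRN hrR) huN) (inv_mem (hRN hrR))) hrR
      (OneFix.conj_mem_invAt hu) (mul_mem hs (inv_mem hrR))
    rw [← mul_smul (s * r⁻¹), inv_mul_cancel_right] at h
    rw [h, ← mul_smul, mul_inv_rev, inv_inv]
    calc (r * s⁻¹ * r) • c = (s⁻¹ * r * r) • c := hcomm r hrR s⁻¹ (inv_mem hs) r hrR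
      _ = t • c := by rw [mul_assoc, hr2, inv_mul_cancel_left]
  · rintro _ ⟨s, hs, rfl⟩ _ ⟨p, hp, rfl⟩ _ ⟨q, hq, rfl⟩ w hwN w' hw'N hw hw' heq
    have key : ∀ {v : G}, v ∈ N → ∀ {p : G}, p ∈ R → v ∈ invAt G (p • c) →
        s • v • s • c = p • p • c := by
      intro v hvN p hp hv
      have h := hinv hvN hp hv (mul_mem hs (inv_mem hp))
      rw [← mul_smul (s * p⁻¹), inv_mul_cancel_right, mul_inv_rev, inv_inv, mul_smul] at h
      rw [h]
      have e := hcomm s hs p hp (s⁻¹ * p) (mul_mem (inv_mem hs) hp)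
      simp only [← mul_smul]
      rw [show s * (p * (s⁻¹ * p)) = s * p * (s⁻¹ * p) by group, e]
      congr 1
      group
    have h2 : p • p • c = q • q • c := by rw [← key hwN hp hw, ← key hw'N hq hw', heq]
    set d := p⁻¹ * q
    have hdR : d ∈ R := mul_mem (inv_mem hp) hq
    have hd : d • d • c = c := by
      have e := hcomm q hq p⁻¹ (inv_mem hp) q hq
      rw [mul_smul, mul_smul, mul_smul, mul_smul] at e
      rw [mul_smul, mul_smul, e, ← h2, inv_smul_smul, inv_smul_smul]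
    have h5 := hsq hdR hd
    rw [mul_smul, inv_smul_eq_iff] at h5
    exact h5.symm

/-- (MID): a rank one subgroup moving the fixed point of one of its involutions has a block of
unique midpoints through that point. -/
theorem exists_mid_block (hG : OneFix G Ω) {N : Subgroup G}
    (hone : ∀ a ∈ N, ∀ b ∈ N, orderOf a = 2 → orderOf b = 2 → a * b = b * a → a = b)
    {c : Ω} {u : G} (hu : u ∈ invAt G c) (huN : u ∈ N) (hmove : ∃ g ∈ N, g • c ≠ c) :
    ∃ B : Set Ω, Mid N u c B :=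
  let ⟨_, _, _, _, _, h⟩ := exists_mid_orbit hG hone hu huN hmove
  ⟨_, h⟩

/-- In (MID) the involutions of `N` interchanging two points of the block fix their midpoint, and
every point of the block is a conjugate of `c`. -/
theorem exists_block (hG : OneFix G Ω) {N : Subgroup G} {c : Ω} {u : G} (hu : u ∈ invAt G c)
    (huN : u ∈ N)
    (hone : ∀ a ∈ N, ∀ b ∈ N, orderOf a = 2 → orderOf b = 2 → a * b = b * a → a = b)
    (hmove : ∃ g ∈ N, g • c ≠ c) :
    ∃ B : Set Ω, c ∈ B ∧ (∃ x ∈ B, x ≠ c) ∧ (∀ x ∈ B, ∃ g ∈ N, g • c = x) ∧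
      (∀ x ∈ B, u • x ∈ B) ∧ (∀ x ∈ B, ∀ y ∈ B, x ≠ y → ∃ w ∈ N, w ∈ swapSet G x y) ∧
      ∀ x ∈ B, ∀ y ∈ B, x ≠ y → ∀ w ∈ N, w ∈ swapSet G x y → ∀ z, w • z = z →
        z ∈ B ∧ ∀ g ∈ N, g • x = x → g • y = y → g • z = z := by
  obtain ⟨R, hRN, -, -, -, hB⟩ := exists_mid_orbit hG hone hu huN hmove
  refine ⟨_, hB.mem, hB.exists_ne, fun x ⟨s, hs, hx⟩ => ⟨s, hRN hs, hx⟩,
    fun x hx => hB.smul_invol_mem huN hB.mem hu hx, fun x hx y hy _ => ?_,
    fun x hx y hy _ w hwN hw z hwz => ?_⟩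
  · obtain ⟨r, hrN, -, hw, hwx⟩ := hB.exists_mid x hx y hy
    exact ⟨_, mul_mem (mul_mem hrN huN) (inv_mem hrN), hw.1, hwx⟩
  · obtain ⟨r, hrN, hrB, hw₀, hwx⟩ := hB.exists_mid x hx y hy
    have hw₀N := mul_mem (mul_mem hrN huN) (inv_mem hrN)
    have hd : r • c ∈ {x : Ω | ∃ s ∈ R, s • c = x} := hrB c hB.mem
    have h := hB.smul_mid (g := w * (r * u * r⁻¹)) (mul_mem hwN hw₀N) hw₀N hx hd hw₀
      (by rw [mul_smul, hwx, smul_swap hw])
      (by rw [hwx, mul_smul, smul_swap (⟨hw₀.1, hwx⟩ : r * u * r⁻¹ ∈ swapSet G x y), hw.2])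
    rw [mul_smul, hw₀.2] at h
    obtain rfl := hG.eq_of_fix hw.1 hwz h
    exact ⟨hd, fun g hgN hgx hgy =>
      hB.smul_mid hgN hw₀N hx hd hw₀ hgx (by rw [hwx, hgy])⟩

end Cfsg.Agent.Lib.BenderOne.Midpoint
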