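import Cfsg.Agent.Lib.BenderOne20.Triangle
import Cfsg.Agent.Lib.Balance.OddInvariant
import Cfsg.Agent.Lib.ZJ.Constrained
import Cfsg.Agent.Lib.ZJ.StableFree
import Cfsg.Agent.Lib.OddOrder.FeitThompson

/-!
# Bender's theorem, part I: local tools in odd order groups

`D` is a subgroup of odd order of `G` and `P` a Sylow `p`-subgroup of `D` (`SylowIn p P D`).
* `le_coreIn`: a `p'`-subgroup of `D` normalised by `P` lies in `O_{p'}(D)`;
* `le_normalizer_zj`: if `O_{p'}(D) = 1` then `D` normalises `Z(J(P))`;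
* `exists_invariant`: an element of order two normalising `D` normalises a Sylow subgroup of `D`
  over a given invariant `p`-subgroup;
* `card_eq_inverted_mul`, `factorization_inverted`: the number of inverted elements.
-/

set_option autoImplicit false
set_option linter.style.haveILetI false

namespace Cfsg.Agent.Lib.BenderOne.LocalTools

open Subgroup
open Cfsg.Agent.Lib.BenderOne20 (SylowIn)
open scoped Pointwise

universe u

variable {G : Type u} [Group G] [Finite G] {p : ℕ} [hp : Fact p.Prime] {D P : Subgroup G}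

theorem isSolvable_odd (hD : Odd (Nat.card D)) : Group.IsSolvable ↥D :=
  OddOrder.FeitThompson.isSolvable_of_odd_card hD

omit [Finite G] in
theorem ne_two_of_dvd (hD : Odd (Nat.card D)) (h : p ∣ Nat.card D) : p ≠ 2 := by
  rintro rfl
  exact (Nat.not_even_iff_odd.2 hD) (even_iff_two_dvd.2 h)

/-- The Sylow subgroup of the group `D` given by `P`. -/
theorem exists_sylow (h : SylowIn p P D) :
    ∃ S : Sylow p D, (S : Subgroup D).map D.subtype = P :=
  Coprime.exists_sylow_of_card h.1 h.2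

/-- An invariant `p'`-subgroup lies in `O_{p'}(D)`. -/
theorem le_coreIn (hD : Odd (Nat.card D)) (hp2 : p ≠ 2) (h : SylowIn p P D) {Q : Subgroup G}
    (hQD : Q ≤ D) (hQ : ¬ p ∣ Nat.card Q) (hPQ : P ≤ normalizer (Q : Set G)) :
    Q ≤ Balance.coreIn p D := by
  haveI := isSolvable_odd hD
  obtain ⟨S, hS⟩ := exists_sylow h
  have key := Balance.invariant_le_pPrimeCore (G := ↥D) hp2
    (PSolvable.isPConstrained_of_isPSolvable PSolvable.isPSolvable_of_isSolvable)
    (A := (S : Subgroup D)) S.isPGroup' ?_ (Q := Q.subgroupOf D) ?_ ?_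
  · intro q hq
    exact ⟨⟨q, hQD hq⟩, key (mem_subgroupOf.2 hq), rfl⟩
  · intro x hx hxp
    have hcomm : (S : Subgroup D) ≤ normalizer ((zpowers x : Subgroup D) : Set D) := by
      intro s hs
      rw [mem_normalizer_iff_map_conj_eq, MonoidHom.map_zpowers]
      congr 1
      show s * x * s⁻¹ = x
      rw [mem_centralizer_iff.1 hx s hs, mul_inv_cancel_right]
    have hxP : IsPGroup p ↥(zpowers x) :=
      IsPGroup.of_card (n := 1) (by rw [Nat.card_zpowers, hxp, pow_one])
    have h1 := S.is_maximal' (S.isPGroup'.to_sup_of_normal_right' hxP hcomm) le_sup_left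
    exact h1.le (mem_sup_right (mem_zpowers x))
  · rwa [Nat.card_congr (subgroupOfEquivOfLe hQD).toEquiv]
  · intro s hs
    have hs' : (s : G) ∈ normalizer (Q : Set G) := hPQ (hS ▸ ⟨s, hs, rfl⟩)
    rw [mem_normalizer_iff]
    intro y
    simp only [mem_subgroupOf, coe_mul, InvMemClass.coe_inv]
    exact mem_normalizer_iff.1 hs' y

/-- `D` normalises `Z(J(P))` when `O_{p'}(D) = 1`. -/
theorem le_normalizer_zj (hD : Odd (Nat.card D)) (hp2 : p ≠ 2) (h : SylowIn p P D)
    (hcore : Balance.coreIn p D = ⊥) :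
    D ≤ normalizer (Cfsg.centerThompsonAOf P : Set G) := by
  haveI := isSolvable_odd hD
  obtain ⟨S, rfl⟩ := exists_sylow h
  have hO : Cfsg.pPrimeCore p ↥D = ⊥ :=
    (Subgroup.map_eq_bot_iff_of_injective _ D.subtype_injective).1 hcore
  have hchar : centralizer (Cfsg.pCore p ↥D : Set ↥D) ≤ Cfsg.pCore p ↥D :=
    PSolvable.centralizer_pCore_le PSolvable.isPSolvable_of_isSolvable hO
  obtain ⟨T⟩ : Nonempty (Sylow 2 ↥D) := inferInstance
  have hT : Subsingleton T := by
    rw [← Finite.card_le_one_iff_subsingleton, T.card_eq_multiplicity,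
      Nat.factorization_eq_zero_of_not_dvd
        (fun h2 => (Nat.not_even_iff_odd.2 hD) (even_iff_two_dvd.2 h2)), pow_zero]
  have hn := ZJ.centerThompsonAOf_normal hp2 hchar
    (ZJ.stable_of_noSLTwo hp2 (PLocal.noSLTwo_of_abelian_sylow_two hp2 T
      ⟨⟨fun _ _ => Subsingleton.elim _ _⟩⟩)) S
  intro d hd
  rw [← ZJ.map_centerThompsonAOf D.subtype D.subtype_injective (S : Subgroup D)]
  exact le_normalizer_map D.subtype
    ⟨⟨d, hd⟩, (normalizer_eq_top_iff.2 hn) ▸ mem_top _, rfl⟩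

omit hp in
/-- `Z(P)` lies in `Z(J(P))`. -/
theorem center_le_zj {x : G} (hxP : x ∈ P) (hxc : ∀ y ∈ P, y * x = x * y) :
    x ∈ Cfsg.centerThompsonAOf P := by
  obtain ⟨A, hA⟩ := ZJ.maxAbIn_nonempty P
  refine mem_inf.2 ⟨ZJ.le_thompsonSubgroupAOf hA ?_, mem_centralizer_iff.2 fun y hy =>
    hxc y (ZJ.thompsonSubgroupAOf_le P hy)⟩
  exact ZJ.mem_of_maxAbIn hA hxP fun a ha => hxc a (hA.1 ha)

theorem zj_ne_bot (h : IsPGroup p P) (hne : P ≠ ⊥) : Cfsg.centerThompsonAOf P ≠ ⊥ := by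
  haveI := (nontrivial_iff_ne_bot P).2 hne
  haveI := h.center_nontrivial
  obtain ⟨z, hz1⟩ := exists_ne (1 : Subgroup.center P)
  intro hb
  have hzc : ∀ y ∈ P, y * ((z : P) : G) = ((z : P) : G) * y := fun y hy =>
    congrArg Subtype.val (mem_center_iff.1 z.2 ⟨y, hy⟩)
  have h1 := center_le_zj (z : P).2 hzc
  rw [hb, mem_bot] at h1
  exact hz1 (Subtype.ext (Subtype.ext h1))

omit hp [Finite G] in
theorem coprime_zpowers {w : G} (hw : orderOf w = 2) (hD : Odd (Nat.card D)) :
    (Nat.card (zpowers w)).Coprime (Nat.card D) := by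
  rw [Nat.card_zpowers, hw]
  exact Nat.coprime_two_left.2 hD

/-- An invariant Sylow subgroup over a given invariant `p`-subgroup. -/
theorem exists_invariant {w : G} (hw : orderOf w = 2) (hwD : w ∈ normalizer (D : Set G))
    (hD : Odd (Nat.card D)) {U : Subgroup G} (hUD : U ≤ D) (hU : IsPGroup p U)
    (hwU : w ∈ normalizer (U : Set G)) :
    ∃ S, SylowIn p S D ∧ U ≤ S ∧ w ∈ normalizer (S : Set G) := by
  obtain ⟨S, hUS, hS⟩ := Coprime.exists_invariant_sylow_ge (zpowers_le.2 hwD)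
    (coprime_zpowers hw hD) (Or.inl (Coprime.isSolvable_zpowers w)) p U hUD hU (zpowers_le.2 hwU)
  exact ⟨_, ⟨map_subtype_le _, Coprime.card_sylow_map S⟩, hUS, hS (mem_zpowers w)⟩

omit hp [Finite G] in
/-- An element of order two inverts `|P : C_P(w)|` elements of an invariant `P` of odd order. -/
theorem card_eq_inverted_mul {w : G} (hw : orderOf w = 2) (hwP : w ∈ normalizer (P : Set G))
    (hP : Odd (Nat.card P)) :
    Nat.card P = Nat.card {y : G // y ∈ P ∧ w * y * w⁻¹ = y⁻¹} *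
      Nat.card ↥(P ⊓ centralizer {w}) := by
  have hw2 : w * w = 1 := by rw [← pow_two, ← hw, pow_orderOf_eq_one]
  obtain ⟨k, hk⟩ := hP
  have hfix : ∀ x : ↥P, (x : G) ^ (2 * k + 1) = 1 := fun x => by
    rw [← hk, ← SubmonoidClass.coe_pow, pow_card_eq_one']; rfl
  -- the conjugation
  set c := (MulAut.conj w : G ≃* G) with hc
  have hcc : ∀ x, c (c x) = x := fun x => by
    show w * (w * x * w⁻¹) * w⁻¹ = x
    rw [inv_eq_of_mul_eq_one_right hw2]
    calc w * (w * x * w) * w = w * w * x * (w * w) := by group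
      _ = x := by rw [hw2, one_mul, mul_one]
  have hcP : ∀ x ∈ P, c x ∈ P := fun x hx => (mem_normalizer_iff.1 hwP x).1 hx
  have hI : ∀ x ∈ P, x⁻¹ * c x ∈ P ∧ c (x⁻¹ * c x) = (x⁻¹ * c x)⁻¹ := fun x hx =>
    ⟨mul_mem (inv_mem hx) (hcP x hx), by rw [map_mul, map_inv, hcc, mul_inv_rev, inv_inv]⟩
  -- the square root
  have hroot : ∀ y ∈ P, c y = y⁻¹ → c (y ^ (k + 1)) = (y ^ (k + 1))⁻¹ ∧
      y ^ (k + 1) * y ^ (k + 1) = y := fun y hy hy' => ⟨by rw [map_pow, hy', inv_pow], by
    rw [← pow_add, show k + 1 + (k + 1) = 2 * k + 1 + 1 by omega, pow_succ, hfix ⟨y, hy⟩, one_mul]⟩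
  have hC : ∀ x, x ∈ P ⊓ centralizer {w} ↔ x ∈ P ∧ c x = x := fun x => by
    rw [mem_inf, mem_centralizer_singleton_iff, hc, MulAut.conj_apply, mul_inv_eq_iff_eq_mul]
    exact and_congr_right fun _ => eq_comm
  rw [← Nat.card_prod]
  refine (Nat.card_eq_of_bijective (fun z : {y : G // y ∈ P ∧ w * y * w⁻¹ = y⁻¹} ×
      ↥(P ⊓ centralizer {w}) =>
        (⟨(z.2 : G) * ((z.1 : G) ^ (k + 1))⁻¹,
          mul_mem ((hC _).1 z.2.2).1 (inv_mem (pow_mem z.1.2.1 _))⟩ : ↥P)) ⟨?_, ?_⟩).symm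
  · rintro ⟨⟨y, hyP, hy⟩, ⟨a, ha⟩⟩ ⟨⟨y', hyP', hy'⟩, ⟨a', ha'⟩⟩ he
    have he' : a * (y ^ (k + 1))⁻¹ = a' * (y' ^ (k + 1))⁻¹ := congrArg Subtype.val he
    have hya : ∀ a y : G, a ∈ P ⊓ centralizer {w} → y ∈ P → c y = y⁻¹ →
        (a * (y ^ (k + 1))⁻¹)⁻¹ * c (a * (y ^ (k + 1))⁻¹) = y := by
      intro a y ha hy hy'
      rw [map_mul, map_inv, ((hC a).1 ha).2, (hroot y hy hy').1, inv_inv]
      conv_rhs => rw [← (hroot y hy hy').2]
      group
    have h1 : y = y' := by rw [← hya a y ha hyP hy, ← hya a' y' ha' hyP' hy', he']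
    subst h1
    have h2 := mul_right_cancel he'
    subst h2
    rfl
  · rintro ⟨x, hx⟩
    obtain ⟨h1, h2⟩ := hI x hx
    obtain ⟨h3, h4⟩ := hroot _ h1 h2
    set r := (x⁻¹ * c x) ^ (k + 1) with hr
    have h5 : c x = x * (r * r) := by rw [h4, mul_inv_cancel_left]
    refine ⟨⟨⟨x⁻¹ * c x, h1, h2⟩, ⟨x * r, (hC _).2 ⟨mul_mem hx (pow_mem h1 _), ?_⟩⟩⟩, ?_⟩
    · rw [map_mul, h3, h5, ← mul_assoc, mul_inv_cancel_right]
    · exact Subtype.ext (mul_inv_cancel_right x r)

/-- The inverted elements of an invariant Sylow subgroup: the `p`-part of those of `D`. -/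
theorem factorization_inverted {w : G} (hw : orderOf w = 2) (hwD : w ∈ normalizer (D : Set G))
    (hD : Odd (Nat.card D)) (h : SylowIn p P D) (hwP : w ∈ normalizer (P : Set G)) :
    Nat.card {y : G // y ∈ P ∧ w * y * w⁻¹ = y⁻¹} =
      p ^ (Nat.card {y : G // y ∈ D ∧ w * y * w⁻¹ = y⁻¹}).factorization p := by
  set C := D ⊓ centralizer {w} with hCdef
  -- a Sylow subgroup of the fixed points
  obtain ⟨R, hR, -⟩ := SylowIn.exists_ge (p := p) (D := C) (U := ⊥) (IsPGroup.of_bot) bot_le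
  have hwR : w ∈ normalizer (R : Set G) := by
    refine centralizer_le_normalizer _ (mem_centralizer_iff.2 fun r hr => ?_)
    exact (mem_centralizer_singleton_iff.1 (hR.1 hr).2)
  obtain ⟨S, hS, hRS, hwS⟩ := exists_invariant hw hwD hD (hR.1.trans inf_le_left) hR.isPGroup hwR
  -- `P` and `S` are conjugate by a fixed element
  letI : MulAction G (Subgroup G) := MulAction.compHom _ (MulAut.conj : G →* MulAut G)
  have hfix : ∀ T : Subgroup G, w ∈ normalizer (T : Set G) → ∀ a ∈ zpowers w, a • T = T :=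
    fun T hT a ha => Coprime.conj_smul_eq_self_of_mem_normalizer ((zpowers_le.2 hT) ha)
  obtain ⟨d, hd, hdS⟩ := h.conj_eq hS
  obtain ⟨d', hd', hd'S⟩ := Coprime.exists_fixed_smul_eq (x := P) (y := S) (zpowers_le.2 hwD)
    (coprime_zpowers hw hD) (Or.inl (Coprime.isSolvable_zpowers w)) ⟨d, hd, hdS⟩
    (hfix P hwP) (hfix S hwS)
  have hd'S' : P.map (MulAut.conj d').toMonoidHom = S := hd'S
  have hd'w : d' * w = w * d' :=
    ((mem_centralizer_iff.1 hd'.2) w (mem_zpowers w)).symm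
  have hcard : Nat.card ↥(P ⊓ centralizer {w}) = p ^ (Nat.card C).factorization p := by
    have hmap : (P ⊓ centralizer {w}).map (MulAut.conj d').toMonoidHom = S ⊓ centralizer {w} := by
      rw [← hd'S']
      ext x
      simp only [mem_map_equiv, mem_inf, mem_centralizer_singleton_iff, MulAut.conj_symm_apply]
      refine and_congr_right fun _ => ?_
      constructor
      · intro hx
        calc x * w = d' * (d'⁻¹ * x * d' * w) * d'⁻¹ := by
              rw [mul_assoc (d'⁻¹ * x) d' w, hd'w]; group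
          _ = d' * (w * (d'⁻¹ * x * d')) * d'⁻¹ := by rw [hx]
          _ = w * x := by rw [← mul_assoc d' w, hd'w]; group
      · intro hx
        calc d'⁻¹ * x * d' * w = d'⁻¹ * (x * w) * d' := by
              rw [mul_assoc (d'⁻¹ * x) d' w, hd'w]; group
          _ = d'⁻¹ * (w * x) * d' := by rw [hx]
          _ = w * (d'⁻¹ * x * d') := by
              have e : d'⁻¹ * w = w * d'⁻¹ := ((show Commute d' w from hd'w).inv_left).eq
              rw [← mul_assoc d'⁻¹, e]; group
    rw [← card_map_of_injective (f := (MulAut.conj d').toMonoidHom) (MulAut.conj d').injective,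
      hmap]
    have hle : S ⊓ centralizer {w} ≤ C := inf_le_inf_right _ hS.1
    have := hR.eq_of_le (le_inf hRS (hR.1.trans inf_le_right)) hle (hS.isPGroup.to_le inf_le_left)
    rw [this, hR.2]
  have hpD := card_eq_inverted_mul hw hwD hD
  have hpP := card_eq_inverted_mul hw hwP (hD.of_dvd_nat (card_dvd_of_le h.1))
  rw [← hCdef] at hpD
  rw [hcard, h.2] at hpP
  have hI : Nat.card {y : G // y ∈ D ∧ w * y * w⁻¹ = y⁻¹} ≠ 0 := fun h0 => by
    rw [h0, zero_mul] at hpD; exact Nat.card_pos.ne' hpD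
  rw [hpD, Nat.factorization_mul hI Nat.card_pos.ne', Finsupp.add_apply, pow_add] at hpP
  exact (Nat.eq_of_mul_eq_mul_right (pow_pos hp.out.pos _) hpP).symm

open Cfsg.Agent.Lib.BenderOne20 MulAction in
omit hp in
/-- A swapper of two points inverts as many elements of their stabiliser as there are involutions
fixing a point. -/
theorem card_inverted_pairStab {Ω : Type*} [MulAction G Ω] (hG : OneFix G Ω) {a b : Ω}
    (hab : a ≠ b) {w : G} (hw : w ∈ swapSet G a b) (x : Ω) :
    Nat.card {y : G // y ∈ pairStab G a b ∧ w * y * w⁻¹ = y⁻¹} = Nat.card (invAt G x) := by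
  have hwN : w ∈ normalizer (pairStab G a b : Set G) := by
    rw [mem_normalizer_iff]
    intro z
    simp only [Subgroup.mem_inf, mem_stabilizer_iff, Involutions.Basic.invol_inv hw.1, mul_smul,
      hw.2, smul_swap hw]
    have e : ∀ z v : Ω, w • z = v → z = w • v := fun z v h => by
      rw [← h, smul_smul, Involutions.Basic.invol_mul_self hw.1, one_smul]
    exact ⟨fun ⟨h1, h2⟩ => ⟨by rw [h2, smul_swap hw], by rw [h1, hw.2]⟩,
      fun ⟨h1, h2⟩ => ⟨(e _ _ h2).trans (smul_swap hw), (e _ _ h1).trans hw.2⟩⟩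
  have h1 := card_eq_inverted_mul hw.1 hwN (hG.odd_pairStab hab)
  rw [hG.card_pairStab_swap hab hw, hG.card_invAt a x] at h1
  exact (Nat.eq_of_mul_eq_mul_right Nat.card_pos h1).symm

end Cfsg.Agent.Lib.BenderOne.LocalTools
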