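import Cfsg.Agent.Lib.BenderOne.NoBadDefs
import Cfsg.Agent.Lib.BenderOne.LocalTools
import Cfsg.Agent.Lib.BenderOne8.Count

/-!
# Bender's theorem, part I, node B: the closing step

A member whose `p'`-core fixes `c`, and is at least as large as that of the next triangle, gives a
non-trivial subgroup of `G_abc` normalised by both pair stabilisers, against (C0).
-/

set_option autoImplicit false

namespace Cfsg.Agent.Lib.BenderOne.NoBadProof

open Subgroup MulAction
open Cfsg.Agent.Lib.Involutions.Basic Cfsg.Agent.Lib.BenderOne20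

variable {G Ω : Type*} [Group G] [MulAction G Ω] [Finite G]

theorem false_of_core_le [IsSimpleGroup G] (hG : OneFix G Ω) (hA : NoInverted G Ω)
    (hfour : ∃ a b : G, orderOf a = 2 ∧ orderOf b = 2 ∧ a ≠ b ∧ a * b = b * a) {p : ℕ}
    [Fact p.Prime] {a b c : Ω} {u : G} {P : Subgroup G} (hM : Member p a b c u P)
    (hW : core p (pairStab G a b) ≤ stabilizer G c)
    (hcard : Nat.card (core p (pairStab G c a)) ≤ Nat.card (core p (pairStab G a b))) :
    False := by
  have hca : c ≠ a := fun h => hM.ne ((h ▸ hM.fix).symm.trans hM.swap.2)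
  obtain ⟨j, hj, hj1, hinv⟩ := hM.bad
  have hP' : SylowIn p P (pairStab G c a) :=
    hM.sylow.of_ge (le_inf hM.le (hM.sylow.1.trans inf_le_left))
      (hG.card_pairStab_triangle hM.ne hM.swap hM.fix).symm
  have hodd := hG.odd_pairStab hM.ne
  have hp2 : p ≠ 2 := by
    refine LocalTools.ne_two_of_dvd hodd ?_
    obtain ⟨k, hk⟩ := IsPGroup.iff_orderOf.1 hM.sylow.isPGroup ⟨j, hj⟩
    rw [Subgroup.orderOf_mk] at hk
    refine ((dvd_pow_self p (fun h0 => hj1 (orderOf_eq_one_iff.1 ?_))).trans hk.symm.dvd).trans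
      ((pairStab G a b).orderOf_dvd_natCard (hM.sylow.1 hj))
    rw [hk, h0, pow_zero]
  have hnorm : ∀ D : Subgroup G, D ≤ Subgroup.normalizer (core p D : Set G) := by
    intro D d hd
    exact Subgroup.le_normalizer_map D.subtype
      ⟨⟨d, hd⟩, Subgroup.normalizer_eq_top_iff.2 (inferInstance : (Cfsg.pPrimeCore p ↥D).Normal) ▸
        mem_top _, rfl⟩
  set W := core p (pairStab G a b) with hWdef
  have hWD : W ≤ pairStab G a b := Subgroup.map_subtype_le _
  have hle : W ≤ core p (pairStab G c a) := by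
    refine LocalTools.le_coreIn (hG.odd_pairStab hca) hp2 hP'
      (le_inf hW (hWD.trans inf_le_left)) ?_ (hM.sylow.1.trans (hnorm _))
    rw [hWdef, Nat.card_congr
      (Subgroup.equivMapOfInjective _ _ (pairStab G a b).subtype_injective).symm.toEquiv]
    exact Cores.not_dvd_card_pPrimeCore p
  have heq : W = core p (pairStab G c a) := Subgroup.eq_of_le_of_card_ge hle hcard
  have huD : u ∈ Subgroup.normalizer (pairStab G a b : Set G) :=
    BenderOne8.zpowers_le_normalizer_pairStab hM.swap (Subgroup.mem_zpowers u)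
  have huW : u ∈ Subgroup.normalizer (W : Set G) := by
    rw [mem_normalizer_iff_map_conj_eq] at huD ⊢
    rw [hWdef, core, Subgroup.map_map]
    conv_rhs => rw [show (Cfsg.pPrimeCore p ↥(pairStab G a b)) =
      (Cfsg.pPrimeCore p ↥(pairStab G a b)).map
        (((pairStab G a b).equivMapOfInjective _ (MulAut.conj u).injective).trans
          (MulEquiv.subgroupCongr huD)).toMonoidHom from (Cores.map_pPrimeCore_equiv _).symm,
      Subgroup.map_map]
    rfl
  have hno : ∀ X : Subgroup G, X ≠ ⊥ → X ≤ stabilizer G c →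
      pairStab G a b ≤ Subgroup.normalizer (X : Set G) →
      pairStab G c a ≤ Subgroup.normalizer (X : Set G) → u ∉ Subgroup.normalizer (X : Set G) :=
    fun X hX hXc hD hE huX => Triangle.not_le_of_both hG hA hfour hM.ne hM.swap hM.fix
      (hM.sylow.1 hj) (hM.le hj) hj1 hinv (normalizer_ne_top hG hX hXc) hD hE huX
  have hWbot : W = ⊥ := by
    by_contra hne
    exact hno W hne hW (hnorm _) (heq ▸ hnorm _) huW
  refine hno (Cfsg.centerThompsonAOf P)
    (LocalTools.zj_ne_bot hM.sylow.isPGroup fun h => hj1 (by rwa [h, Subgroup.mem_bot] at hj))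
    ((ZJ.centerThompsonAOf_le P).trans hM.le)
    (LocalTools.le_normalizer_zj hodd hp2 hM.sylow hWbot)
    (LocalTools.le_normalizer_zj (hG.odd_pairStab hca) hp2 hP' (heq.symm.trans hWbot))
    (ZJ.normalizer_le_normalizer_centerThompsonA P hM.inv)

end Cfsg.Agent.Lib.BenderOne.NoBadProof
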