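import Cfsg.Agent.Lib.BenderOne20.Bridge
import Cfsg.Agent.Lib.BenderOne20.Triangle
import Cfsg.Agent.Lib.ZStar.UniqueCase

/-!
# Bender's theorem, part I: fixed sets of subgroups of two-point stabilisers

Generic facts about an action in which every involution fixes exactly one point.

* `commute_of_noBad` : under property (F) a swapper centralises what it normalises at its fixed point;
* `exists_swap_normalizer` : a pair is swapped inside the normaliser of a Sylow subgroup of its stabiliser;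
* `card_fixed_le_two` : an odd subgroup whose fixed set has even size, with all pairs swapped in its
  normaliser, fixes at most two points;
* `transitive_of_unique_fixed` : Gleason's lemma.

Owner: helper32.
-/

set_option autoImplicit false
set_option linter.style.haveILetI false
set_option linter.unusedSectionVars false

namespace Cfsg.Agent.Lib.BenderOne

open MulAction Cfsg.Agent.Lib.Involutions.Basic Cfsg.Agent.Lib.BenderOne20

universe u v

variable {G : Type u} {Ω : Type v} [Group G] [MulAction G Ω]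

/-- The points fixed by all elements of a subgroup. -/
def fixed (Ω : Type v) [MulAction G Ω] (X : Subgroup G) : Set Ω := {ω | ∀ x ∈ X, x • ω = ω}

/-- Property (F) for an action. -/
def NoBadAct (G : Type u) (Ω : Type v) [Group G] [MulAction G Ω] : Prop :=
  ∀ (v x : G) (c d : Ω), v ∈ invAt G c → d ≠ c → x • c = c → x • d = d → v * x * v⁻¹ = x⁻¹ → x = 1

theorem fixed_anti {X Y : Subgroup G} (h : X ≤ Y) : fixed Ω Y ⊆ fixed Ω X :=
  fun _ hω x hx => hω x (h hx)

theorem le_pairStab_of_fixed {X : Subgroup G} {a b : Ω} (ha : a ∈ fixed Ω X) (hb : b ∈ fixed Ω X) :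
    X ≤ pairStab G a b :=
  fun x hx => ⟨ha x hx, hb x hx⟩

theorem smul_mem_fixed {X : Subgroup G} {g : G} (hg : g ∈ Subgroup.normalizer (X : Set G)) {ω : Ω}
    (hω : ω ∈ fixed Ω X) : g • ω ∈ fixed Ω X := by
  intro x hx
  have h := hω _ ((Subgroup.mem_normalizer_iff''.1 hg x).1 hx)
  calc x • g • ω = g • ((g⁻¹ * x * g) • ω) := by simp [mul_smul]
    _ = g • ω := by rw [h]

/-- A `p`-group acting on an invariant finite set. -/
theorem modEq_fixed {p : ℕ} [Fact p.Prime] {R : Subgroup G} (hR : IsPGroup p R) [Finite Ω] (S : Set Ω)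
    (hS : ∀ r ∈ R, ∀ y ∈ S, r • y ∈ S) :
    Nat.card S ≡ Nat.card ↥(S ∩ fixed Ω R) [MOD p] := by
  letI : MulAction R S :=
    { smul := fun r y => ⟨(r : G) • y.1, hS r r.2 y y.2⟩
      one_smul := fun y => Subtype.ext (one_smul G y.1)
      mul_smul := fun r r' y => Subtype.ext (mul_smul (r : G) r' y.1) }
  have e : fixedPoints R S ≃ ↥(S ∩ fixed Ω R) :=
    { toFun := fun y => ⟨y.1.1, y.1.2, fun r hr => congrArg Subtype.val (y.2 ⟨r, hr⟩)⟩
      invFun := fun y => ⟨⟨y.1, y.2.1⟩, fun r => Subtype.ext (y.2.2 r r.2)⟩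
      left_inv := fun y => rfl
      right_inv := fun y => rfl }
  exact Nat.card_congr e ▸ hR.card_modEq_card_fixedPoints S

/-- An involution leaving a set of odd size invariant fixes a point in it. -/
theorem exists_fixed_of_odd [Finite Ω] {v : G} (hv : orderOf v = 2) {S : Set Ω}
    (hS : ∀ y ∈ S, v • y ∈ S) (hodd : Odd (Nat.card S)) : ∃ c ∈ S, v • c = c := by
  haveI : Fact (Nat.Prime 2) := ⟨Nat.prime_two⟩
  have hpow : ∀ r ∈ Subgroup.zpowers v, r = 1 ∨ r = v := by
    intro r hr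
    obtain ⟨k, rfl⟩ := Subgroup.mem_zpowers_iff.1 hr
    rcases Int.emod_two_eq_zero_or_one k with h | h <;> rw [← zpow_mod_orderOf, hv]
    · left; push_cast; rw [h, zpow_zero]
    · right; push_cast; rw [h, zpow_one]
  have h := modEq_fixed (R := Subgroup.zpowers v)
    (IsPGroup.of_card (p := 2) (n := 1) (by rw [Nat.card_zpowers, hv, pow_one])) S (fun r hr y hy => by
      rcases hpow r hr with rfl | rfl
      · rwa [one_smul]
      · exact hS y hy)
  have hne : Nat.card ↥(S ∩ fixed Ω (Subgroup.zpowers v)) ≠ 0 := by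
    intro h0
    rw [h0] at h
    have := Nat.ModEq.dvd_iff h (dvd_refl 2)
    exact Nat.not_even_iff_odd.2 hodd (even_iff_two_dvd.2 (this.2 (dvd_zero 2)))
  obtain ⟨⟨c, hcS, hc⟩⟩ := (Nat.card_ne_zero.1 hne).1
  exact ⟨c, hcS, hc v (Subgroup.mem_zpowers v)⟩

/-- Growth of normalisers in a `p`-group. -/
theorem lt_inf_normalizer_of_lt [Finite G] {p : ℕ} [Fact p.Prime] {X R : Subgroup G} (hR : IsPGroup p R)
    (hlt : X < R) : X < R ⊓ Subgroup.normalizer (X : Set G) := by
  haveI : Group.IsNilpotent R := hR.isNilpotent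
  have h1 : X.subgroupOf R < ⊤ := by
    rw [lt_top_iff_ne_top, ne_eq, Subgroup.subgroupOf_eq_top]
    exact hlt.not_ge
  obtain ⟨g, hgN, hgX⟩ := SetLike.exists_of_lt (Group.normalizerCondition_of_isNilpotent _ h1)
  refine SetLike.lt_iff_le_and_exists.2 ⟨le_inf hlt.le Subgroup.le_normalizer, (g : G), Subgroup.mem_inf.2 ⟨g.2, ?_⟩,
    fun h => hgX (Subgroup.mem_subgroupOf.2 h)⟩
  rw [Subgroup.mem_normalizer_iff]
  intro x
  constructor
  · intro hx
    exact ((Subgroup.mem_normalizer_iff.1 hgN ⟨x, hlt.le hx⟩).1 hx :)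
  · intro hx
    have hxR : x ∈ R := by
      have := mul_mem (mul_mem (inv_mem g.2) (hlt.le hx)) g.2
      simpa [mul_assoc] using this
    exact ((Subgroup.mem_normalizer_iff.1 hgN ⟨x, hxR⟩).2 hx :)

/-- An element whose square lies in an odd subgroup not containing it has a power which is an
involution outside that subgroup. -/
theorem exists_invol_pow [Finite G] {A : Subgroup G} (hA : Odd (Nat.card A)) {g : G} (hgA : g ∉ A)
    (hg2 : g * g ∈ A) : ∃ k : ℕ, Odd k ∧ orderOf (g ^ k) = 2 := by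
  have hodd : Odd (orderOf (g * g)) := hA.of_dvd_nat (A.orderOf_dvd_natCard hg2)
  have heven : Even (orderOf g) := by
    by_contra h
    rw [Nat.not_even_iff_odd] at h
    obtain ⟨j, hj⟩ := h
    refine hgA ?_
    have h1 : g = (g * g) ^ (j + 1) := by
      rw [← pow_two, ← pow_mul, show 2 * (j + 1) = orderOf g + 1 by omega, pow_succ, pow_orderOf_eq_one,
        one_mul]
    rw [h1]
    exact pow_mem hg2 _
  obtain ⟨k, hk⟩ := heven
  have hk0 : k ≠ 0 := fun h => (orderOf_pos g).ne' (by omega)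
  have hsq : orderOf (g * g) = k := by
    rw [← pow_two, orderOf_pow_of_dvd two_ne_zero (by omega)]
    omega
  refine ⟨k, hsq ▸ hodd, ?_⟩
  rw [orderOf_pow_of_dvd hk0 ⟨2, by omega⟩, hk, ← two_mul, Nat.mul_div_cancel _ (Nat.pos_of_ne_zero hk0)]

/-- An element normalising `X` and exchanging two points yields such an involution. -/
theorem exists_swap_of_exchange [Finite G] (hG : OneFix G Ω) {X : Subgroup G} {g : G} {x y : Ω}
    (hxy : x ≠ y) (hg : g ∈ Subgroup.normalizer (X : Set G)) (h1 : g • x = y) (h2 : g • y = x) :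
    ∃ w ∈ swapSet G x y, w ∈ Subgroup.normalizer (X : Set G) := by
  have hg2 : g * g ∈ pairStab G x y :=
    ⟨show (g * g) • x = x by rw [mul_smul, h1, h2], show (g * g) • y = y by rw [mul_smul, h2, h1]⟩
  obtain ⟨k, ⟨j, rfl⟩, hk⟩ := exists_invol_pow (hG.odd_pairStab hxy)
    (fun h => hxy ((h.1 : g • x = x).symm.trans h1)) hg2
  refine ⟨_, ⟨hk, ?_⟩, pow_mem hg _⟩
  rw [pow_succ, pow_mul, mul_smul, h1, pow_two]
  exact (pow_mem hg2 j).2.trans rfl

variable [Finite G]

/-- Under property (F) an involution centralises a subgroup it normalises which fixes its fixed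
point and a second one. -/
theorem commute_of_noBad (hB : NoBadAct G Ω) {v : G} {c d : Ω} (hv : v ∈ invAt G c) (hd : d ≠ c)
    {X : Subgroup G} (hvX : v ∈ Subgroup.normalizer (X : Set G)) (hc : c ∈ fixed Ω X)
    (hdX : d ∈ fixed Ω X) {x : G} (hx : x ∈ X) : v * x = x * v := by
  have hvx : v * x * v⁻¹ ∈ X := (Subgroup.mem_normalizer_iff.1 hvX x).1 hx
  set y := x⁻¹ * (v * x * v⁻¹)
  have hy : y ∈ X := mul_mem (inv_mem hx) hvx
  have h := hB v y c d hv hd (hc y hy) (hdX y hy) (by
    show v * (x⁻¹ * (v * x * v⁻¹)) * v⁻¹ = (x⁻¹ * (v * x * v⁻¹))⁻¹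
    have hvv := invol_mul_self hv.1
    calc v * (x⁻¹ * (v * x * v⁻¹)) * v⁻¹ = v * x⁻¹ * v⁻¹ * ((v * v) * x * (v * v)⁻¹) := by group
      _ = _ := by rw [hvv]; group)
  calc v * x = x * y * v := by simp only [y]; group
    _ = x * v := by rw [h, mul_one]

variable (hG : OneFix G Ω)
include hG

/-- A pair is interchanged by an involution normalising a given Sylow subgroup of its stabiliser. -/
theorem exists_swap_normalizer {p : ℕ} [Fact p.Prime] {x y : Ω} (hxy : x ≠ y) {P : Subgroup G}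
    (hP : SylowIn p P (pairStab G x y)) :
    ∃ w ∈ swapSet G x y, w ∈ Subgroup.normalizer (P : Set G) := by
  obtain ⟨w, hw⟩ := hG.swapSet_nonempty hxy
  have hmap : (pairStab G x y).map (MulAut.conj w).toMonoidHom = pairStab G x y := by
    refine Subgroup.eq_of_le_of_card_ge ?_
      (le_of_eq (Subgroup.card_map_of_injective (MulAut.conj w).injective).symm)
    rintro _ ⟨z, ⟨hzx, hzy⟩, rfl⟩
    refine ⟨?_, ?_⟩
    · show (w * z * w⁻¹) • x = x
      rw [invol_inv hw.1, mul_smul, mul_smul, hw.2, (hzy : z • y = y), smul_swap hw]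
    · show (w * z * w⁻¹) • y = y
      rw [invol_inv hw.1, mul_smul, mul_smul, smul_swap hw, (hzx : z • x = x), hw.2]
  obtain ⟨d, hd, hdP⟩ := (hmap ▸ hP.map_conj w).conj_eq hP
  refine exists_swap_of_exchange hG hxy (g := d * w) ?_ ?_ ?_
  · refine Subgroup.mem_normalizer_iff_map_conj_eq.2 ?_
    conv_rhs => rw [← hdP, Subgroup.map_map]
    congr 1
    ext z
    simp [mul_assoc]
  · rw [mul_smul, hw.2]; exact hd.2
  · rw [mul_smul, smul_swap hw]; exact hd.1

/-- If `p` divides the number of involutions fixing a point, a swapper does not centralise a Sylow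
`p`-subgroup of the stabiliser of the pair. -/
theorem not_commute {p : ℕ} [hp : Fact p.Prime] {x y : Ω} (hxy : x ≠ y) {P : Subgroup G}
    (hP : SylowIn p P (pairStab G x y)) {w : G} (hw : w ∈ swapSet G x y)
    (hm : p ∣ Nat.card (invAt G x)) : ¬ ∀ z ∈ P, w * z = z * w := by
  intro h
  have hle : P ≤ pairStab G x y ⊓ Subgroup.centralizer {w} := fun z hz =>
    ⟨hP.1 hz, Subgroup.mem_centralizer_singleton_iff.2 (h z hz).symm⟩
  have hd := mul_dvd_mul hm (Subgroup.card_dvd_of_le hle)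
  rw [← hG.card_pairStab_swap hxy hw, hP.2, mul_comm, ← pow_succ] at hd
  exact Nat.pow_succ_factorization_not_dvd Nat.card_pos.ne' hp.out hd

/-- In the normaliser of an odd subgroup in which no involution fixes one of its fixed points, the
products of two involutions generate a subgroup of odd order. -/
theorem exists_odd_products {X : Subgroup G} (hX : Odd (Nat.card X))
    (hno : ∀ w ∈ Subgroup.normalizer (X : Set G), ∀ c ∈ fixed Ω X, orderOf w = 2 → w • c ≠ c) :
    ∃ O : Subgroup G, O ≤ Subgroup.normalizer (X : Set G) ∧ Odd (Nat.card O) ∧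
      (∀ g ∈ Subgroup.normalizer (X : Set G), ∀ o ∈ O, g * o * g⁻¹ ∈ O) ∧
      ∀ s ∈ Subgroup.normalizer (X : Set G), ∀ t ∈ Subgroup.normalizer (X : Set G),
        orderOf s = 2 → orderOf t = 2 → s * t ∈ O := by
  haveI : Fact (Nat.Prime 2) := ⟨Nat.prime_two⟩
  set N := Subgroup.normalizer (X : Set G) with hN
  have huniq : ∀ s t : N, orderOf s = 2 → orderOf t = 2 → s * t = t * s → s = t := by
    intro s t hs ht hst
    by_contra hne
    rw [← Subgroup.orderOf_coe] at hs ht
    obtain ⟨c, hc⟩ := hG.exists_fix hs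
    have hst' : (s : G) * t = t * s := congrArg Subtype.val hst
    have htc : (t : G) • c = c := hG.smul_eq_of_commute ⟨hs, hc⟩ hst'
    refine hno s s.2 c ?_ hs hc
    exact fun x hx => hG.smul_eq_of_four hX (d := c) ⟨hs, hc⟩ ⟨ht, htc⟩ (fun e => hne (Subtype.ext e))
      hst' s.2 t.2 hx
  by_cases hinv : ∃ z : N, orderOf z = 2
  · obtain ⟨z, hz⟩ := hinv
    obtain ⟨S, hS⟩ := (IsPGroup.of_card (p := 2) (n := 1) (by rw [Nat.card_zpowers, hz, pow_one]) :
      IsPGroup 2 (Subgroup.zpowers z)).exists_le_sylow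
    -- the only involution of `S` is `z`
    have honly : ∀ w ∈ (S : Subgroup N), orderOf w = 2 → w = z := by
      have hzS := hS (Subgroup.mem_zpowers z)
      haveI : Nontrivial ↥(S : Subgroup N) := ⟨⟨⟨z, hzS⟩, 1, fun h => invol_ne_one hz
        (congrArg Subtype.val h)⟩⟩
      have := S.2.center_nontrivial
      obtain ⟨c, hc⟩ := exists_prime_orderOf_dvd_card' (G := Subgroup.center ↥(S : Subgroup N)) 2 (by
        obtain ⟨k, hk, hk'⟩ := (S.2.to_subgroup _).nontrivial_iff_card.1 this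
        rw [hk']; exact dvd_pow_self 2 hk.ne')
      have hc2 : orderOf ((c : ↥(S : Subgroup N)) : N) = 2 := by
        rw [Subgroup.orderOf_coe, Subgroup.orderOf_coe, hc]
      have key : ∀ w ∈ (S : Subgroup N), orderOf w = 2 → w = ((c : ↥(S : Subgroup N)) : N) :=
        fun w hw hw2 => huniq _ _ hw2 hc2
          (congrArg Subtype.val (Subgroup.mem_center_iff.1 c.2 ⟨w, hw⟩))
      exact fun w hw hw2 => (key w hw hw2).trans (key z hzS hz).symm
    obtain ⟨M, hMn, hMo, hcomm⟩ := ZStar.UniqueCase.zstar S z hz (hS (Subgroup.mem_zpowers z))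
      fun g hg => honly _ hg ((orderOf_conj_eq g _).trans hz)
    haveI := hMn
    -- every involution is congruent to `z`
    have hcong : ∀ s : N, orderOf s = 2 → s * z ∈ M := by
      intro s hs
      obtain ⟨T, hT⟩ := (IsPGroup.of_card (p := 2) (n := 1) (by rw [Nat.card_zpowers, hs, pow_one]) :
        IsPGroup 2 (Subgroup.zpowers s)).exists_le_sylow
      obtain ⟨g, hg⟩ := MulAction.exists_smul_eq N T S
      have hsg : g * s * g⁻¹ = z := by
        refine honly _ ?_ ((orderOf_conj_eq g s).trans hs)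
        rw [← hg, Sylow.coe_subgroup_smul]
        simpa using Subgroup.smul_mem_pointwise_smul (a := MulAut.conj g) s (T : Subgroup N)
          (hT (Subgroup.mem_zpowers s))
      have h1 := inv_mem (hcomm g⁻¹)
      have h2 : g⁻¹ * z * g = s := by rw [← hsg]; group
      rw [← h2]
      convert h1 using 1
      simp only [mul_inv_rev, inv_inv, invol_inv hz, mul_assoc]
    refine ⟨M.map N.subtype, Subgroup.map_subtype_le _, ?_, ?_, ?_⟩
    · rwa [Subgroup.card_map_of_injective N.subtype_injective]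
    · rintro g hg _ ⟨o, ho, rfl⟩
      exact ⟨⟨g, hg⟩ * o * ⟨g, hg⟩⁻¹, hMn.conj_mem o ho _, rfl⟩
    · intro s hs t ht hs2 ht2
      refine ⟨⟨s, hs⟩ * ⟨t, ht⟩, ?_, rfl⟩
      have h1 := hcong ⟨s, hs⟩ (by rwa [Subgroup.orderOf_mk])
      have h2 := hcong ⟨t, ht⟩ (by rwa [Subgroup.orderOf_mk])
      have h3 := mul_mem h1 (inv_mem h2)
      rwa [mul_inv_rev, ← mul_assoc, mul_inv_cancel_right,
        invol_inv (show orderOf (⟨t, ht⟩ : N) = 2 by rwa [Subgroup.orderOf_mk])] at h3
  · refine ⟨⊥, bot_le, by simp, fun g _ o ho => ?_, fun s hs t ht hs2 ht2 => absurd ?_ hinv⟩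
    · rw [Subgroup.mem_bot] at ho ⊢
      rw [ho, mul_one, mul_inv_cancel]
    · exact ⟨⟨s, hs⟩, by rwa [Subgroup.orderOf_mk]⟩

/-- If the fixed set of an odd subgroup has even size and all its pairs are interchanged in the
normaliser, it has at most two points. -/
theorem card_fixed_le_two [Finite Ω] {X : Subgroup G} (hX : Odd (Nat.card X))
    (heven : Even (Nat.card (fixed Ω X)))
    (hswap : ∀ x ∈ fixed Ω X, ∀ y ∈ fixed Ω X, x ≠ y →
      ∃ w ∈ swapSet G x y, w ∈ Subgroup.normalizer (X : Set G)) :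
    Nat.card (fixed Ω X) ≤ 2 := by
  by_contra hlt
  push Not at hlt
  haveI : Fact (Nat.Prime 2) := ⟨Nat.prime_two⟩
  have hno : ∀ w ∈ Subgroup.normalizer (X : Set G), ∀ c ∈ fixed Ω X, orderOf w = 2 → w • c ≠ c := by
    intro w hwN c hc hw2 hwc
    have hS : ∀ y ∈ fixed Ω X \ {c}, w • y ∈ fixed Ω X \ {c} := fun y hy =>
      ⟨smul_mem_fixed hwN hy.1, fun e => hy.2 (by
        have e' : w • y = c := e
        have := congrArg (fun z => w • z) e'
        simp only [← mul_smul, invol_mul_self hw2, one_smul, hwc] at this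
        exact this)⟩
    obtain ⟨d, hd, hdw⟩ := exists_fixed_of_odd hw2 hS (by
      rw [Nat.card_coe_set_eq, Set.ncard_sdiff_singleton_of_mem hc, ← Nat.card_coe_set_eq]
      obtain ⟨k, hk⟩ := heven
      exact ⟨k - 1, by omega⟩)
    exact hd.2 (hG.eq_of_fix hw2 hdw hwc)
  obtain ⟨O, hON, hOodd, -, hprod⟩ := exists_odd_products hG hX hno
  rw [Nat.card_coe_set_eq, Set.two_lt_ncard_iff] at hlt
  obtain ⟨a, b, c, ha, hb, hc, hab, hac, hbc⟩ := hlt
  have horb : fixed Ω X = orbit O a := by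
    refine Set.Subset.antisymm (fun d hd => ?_) ?_
    · by_cases hda : d = a
      · rw [hda]; exact mem_orbit_self a
      obtain ⟨e, he, hea, hed⟩ : ∃ e ∈ fixed Ω X, e ≠ a ∧ e ≠ d := by
        rcases eq_or_ne b d with rfl | h
        · exact ⟨c, hc, hac.symm, hbc.symm⟩
        · exact ⟨b, hb, hab.symm, h⟩
      obtain ⟨w, hw, hwN⟩ := hswap a ha e he hea.symm
      obtain ⟨w', hw', hwN'⟩ := hswap e he d hd hed
      exact ⟨⟨w' * w, hprod _ hwN' _ hwN hw'.1 hw.1⟩, by
        show (w' * w) • a = d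
        rw [mul_smul, hw.2, hw'.2]⟩
    · rintro _ ⟨o, rfl⟩
      exact smul_mem_fixed (hON o.2) ha
  have hdvd : Nat.card (orbit O a) ∣ Nat.card O :=
    ⟨_, (by rw [← Nat.card_prod]; exact (Nat.card_congr (orbitProdStabilizerEquivGroup O a)).symm)⟩
  rw [← horb] at hdvd
  exact Nat.not_odd_iff_even.2 heven (hOodd.of_dvd_nat hdvd)

omit hG in
/-- Gleason's lemma. -/
theorem transitive_of_unique_fixed {p : ℕ} [hp : Fact p.Prime] [Finite Ω] {A : Subgroup G} {S : Set Ω}
    (hS : ∀ g ∈ A, ∀ y ∈ S, g • y ∈ S)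
    (h : ∀ y ∈ S, ∃ R : Subgroup G, R ≤ A ∧ IsPGroup p R ∧ y ∈ fixed Ω R ∧ ∀ z ∈ S, z ∈ fixed Ω R → z = y)
    {x y : Ω} (hx : x ∈ S) (hy : y ∈ S) : ∃ g ∈ A, g • x = y := by
  by_contra hno
  set T : Set Ω := orbit A x
  have hTS : T ⊆ S := by
    rintro _ ⟨g, rfl⟩
    exact hS g g.2 x hx
  have hinv : ∀ {R : Subgroup G}, R ≤ A → ∀ r ∈ R, ∀ z ∈ T, r • z ∈ T := fun {R} hRA r hr z hz => by
    obtain ⟨g, rfl⟩ := hz
    exact ⟨⟨r, hRA hr⟩ * g, mul_smul r (g : G) x⟩
  obtain ⟨R, hRA, hRp, hxR, hRu⟩ := h x hx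
  have h1 := modEq_fixed hRp T (hinv hRA)
  have e1 : T ∩ fixed Ω R = {x} := Set.eq_singleton_iff_unique_mem.2
    ⟨⟨mem_orbit_self x, hxR⟩, fun z hz => hRu z (hTS hz.1) hz.2⟩
  rw [e1, Nat.card_coe_set_eq {x}, Set.ncard_singleton] at h1
  obtain ⟨R', hRA', hRp', -, hRu'⟩ := h y hy
  have h2 := modEq_fixed hRp' T (hinv hRA')
  have e2 : T ∩ fixed Ω R' = ∅ := Set.eq_empty_iff_forall_notMem.2 fun z hz => hno (by
    obtain ⟨g, hg⟩ := hz.1
    exact ⟨g, g.2, (show (g : G) • x = z from hg).trans (hRu' z (hTS hz.1) hz.2)⟩)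
  rw [e2, Nat.card_coe_set_eq ∅, Set.ncard_empty] at h2
  have h3 : (1 : ℕ) ≡ 0 [MOD p] := h1.symm.trans h2
  exact hp.out.one_lt.ne' (Nat.dvd_one.1 ((Nat.modEq_zero_iff_dvd).1 h3))

end Cfsg.Agent.Lib.BenderOne
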