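import Cfsg.Agent.Lib.BenderOne.NoBadChain
import Cfsg.Agent.Lib.BenderOne.NoBadCore
import Cfsg.Agent.Lib.BenderOne.TwoPoint
import Cfsg.Agent.Lib.BenderOne8.Count
import Cfsg.Agent.Lib.BenderOne.Midpoint
import Cfsg.Agent.Lib.Cores.Basic

/-!
# Bender's theorem, part I, node B: property (F)

See `notes/bender_nobad_proof.md`.
-/

set_option autoImplicit false
set_option linter.style.haveILetI false

namespace Cfsg.Agent.Lib.BenderOne.NoBadProof

open Subgroup MulAction
open Cfsg.Agent.Lib.Involutions.Basic Cfsg.Agent.Lib.Involutions.StronglyEmbedded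
open Cfsg.Agent.Lib.BenderOne20 Cfsg.Agent.Lib.BenderOne

universe u v

variable {G : Type u} {Ω : Type v} [Group G] [MulAction G Ω] [Finite G]

/-! ## Elements inverted by an involution -/

omit [MulAction G Ω] in
/-- An inverted element of odd order moves the involution to its translate. -/
theorem exists_sqrt {u x : G} (hu : orderOf u = 2) (hx : Odd (orderOf x))
    (h : u * x * u⁻¹ = x⁻¹) :
    ∃ r ∈ Subgroup.zpowers x, u * r * u⁻¹ = r⁻¹ ∧ r * u * r⁻¹ = x * u := by
  obtain ⟨k, hk⟩ := hx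
  have h1 : u * x ^ (k + 1) * u⁻¹ = (x ^ (k + 1))⁻¹ := by rw [← conj_pow, h, inv_pow]
  refine ⟨x ^ (k + 1), pow_mem (Subgroup.mem_zpowers x) _, h1, ?_⟩
  calc x ^ (k + 1) * u * (x ^ (k + 1))⁻¹ = x ^ (k + 1) * u * (u * x ^ (k + 1) * u⁻¹) := by rw [h1]
    _ = x ^ (k + 1) * (u * u) * x ^ (k + 1) * u⁻¹ := by group
    _ = x ^ (k + 1) * x ^ (k + 1) * u := by rw [invol_mul_self hu, invol_inv hu, mul_one]
    _ = x * u := by
      rw [← pow_add, show k + 1 + (k + 1) = orderOf x + 1 by omega, pow_succ, pow_orderOf_eq_one,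
        one_mul]

omit [MulAction G Ω] in
/-- The inverted elements give all conjugates of the involution. -/
theorem exists_invGen_conj {P : Subgroup G} (hP : Odd (Nat.card P)) {u : G} (hu : orderOf u = 2)
    (huP : u ∈ Subgroup.normalizer (P : Set G)) {k : G} (hk : k ∈ P) :
    ∃ r ∈ invGen P u, r * u * r⁻¹ = k * u * k⁻¹ := by
  have huu := invol_mul_self hu
  have hx : k * u * k⁻¹ * u ∈ P := by
    have h := mul_mem hk ((Subgroup.mem_normalizer_iff.1 huP k⁻¹).1 (inv_mem hk))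
    rw [invol_inv hu] at h
    simpa [mul_assoc] using h
  have hinv : u * (k * u * k⁻¹ * u) * u⁻¹ = (k * u * k⁻¹ * u)⁻¹ := by
    simp only [mul_inv_rev, inv_inv, invol_inv hu]
    rw [show u * (k * u * k⁻¹ * u) * u = u * (k * (u * k⁻¹)) * (u * u) by group, huu, mul_one]
  obtain ⟨r, hr, -, hr'⟩ :=
    exists_sqrt hu (hP.of_dvd_nat (P.orderOf_dvd_natCard hx)) hinv
  refine ⟨r, (Subgroup.zpowers_le.2 (mem_invGen hx hinv)) hr, ?_⟩
  rw [hr', mul_assoc, huu, mul_one]

omit [MulAction G Ω] in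
theorem invGen_normalizer {P : Subgroup G} {u : G} (hu : orderOf u = 2) :
    u ∈ Subgroup.normalizer (invGen P u : Set G) := by
  have key : ∀ x ∈ invGen P u, u * x * u⁻¹ ∈ invGen P u := by
    intro x hx
    induction hx using Subgroup.closure_induction with
    | mem y hy => rw [hy.2]; exact inv_mem (Subgroup.subset_closure hy)
    | one => simp
    | mul y z _ _ hy hz =>
      have := mul_mem hy hz
      rwa [show u * y * u⁻¹ * (u * z * u⁻¹) = u * (y * z) * u⁻¹ by group] at this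
    | inv y _ hy =>
      have := inv_mem hy
      rwa [show (u * y * u⁻¹)⁻¹ = u * y⁻¹ * u⁻¹ by group] at this
  refine Subgroup.mem_normalizer_iff.2 fun x => ⟨key x, fun hx => ?_⟩
  have := key _ hx
  rwa [invol_inv hu, show u * (u * x * u) * u = (u * u) * x * (u * u) by group, invol_mul_self hu,
    one_mul, mul_one] at this

/-! ## The cores -/

omit [MulAction G Ω] in
theorem map_core (p : ℕ) (D : Subgroup G) (g : G) :
    (core p D).map (MulAut.conj g).toMonoidHom = core p (D.map (MulAut.conj g).toMonoidHom) := by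
  rw [core, core, Subgroup.map_map,
    ← Cores.map_pPrimeCore_equiv (p := p) (D.equivMapOfInjective _ (MulAut.conj g).injective),
    Subgroup.map_map]
  rfl

omit [MulAction G Ω] in
theorem normalizer_le_core (p : ℕ) (D : Subgroup G) :
    Subgroup.normalizer (D : Set G) ≤ Subgroup.normalizer (core p D : Set G) := by
  intro g hg
  rw [Subgroup.mem_normalizer_iff_map_conj_eq] at hg ⊢
  exact (map_core p D g).trans (congrArg (core p) hg)

omit [MulAction G Ω] in
theorem not_dvd_card_core (p : ℕ) [Fact p.Prime] (D : Subgroup G) :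
    ¬ p ∣ Nat.card (core p D) := by
  rw [Nat.card_congr (Subgroup.equivMapOfInjective _ _ D.subtype_injective).symm.toEquiv]
  exact Cores.not_dvd_card_pPrimeCore p

/-! ## Members -/

variable (hG : OneFix G Ω)
include hG

/-- A swapper normalises `G_abc`. -/
theorem zpowers_le_normalizer_three {a b c : Ω} {u : G} (hu : u ∈ swapSet G a b) (hc : u • c = c) :
    Subgroup.zpowers u ≤ Subgroup.normalizer ((pairStab G a b ⊓ stabilizer G c : Subgroup G) : Set G) :=
  Lib.Coprime.le_normalizer_inf (BenderOne8.zpowers_le_normalizer_pairStab hu)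
    (Subgroup.zpowers_le.2 (Subgroup.le_normalizer (mem_stabilizer_iff.2 hc)))

theorem coprime_three {a b c : Ω} (hab : a ≠ b) {u : G} (hu : u ∈ swapSet G a b) :
    (Nat.card (Subgroup.zpowers u)).Coprime
      (Nat.card ↥(pairStab G a b ⊓ stabilizer G c)) :=
  (BenderOne8.coprime_zpowers hG hab hu).coprime_dvd_right (Subgroup.card_dvd_of_le inf_le_left)

/-- An invariant `p`-subgroup of `G_abc` lies in an invariant Sylow subgroup. -/
theorem exists_three_ge {p : ℕ} [Fact p.Prime] {a b c : Ω} (hab : a ≠ b) {u : G}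
    (hu : u ∈ swapSet G a b) (hc : u • c = c) {U : Subgroup G} (hU : IsPGroup p U)
    (hUY : U ≤ pairStab G a b ⊓ stabilizer G c) (huU : u ∈ Subgroup.normalizer (U : Set G)) :
    ∃ P, SylowIn p P (pairStab G a b ⊓ stabilizer G c) ∧
      u ∈ Subgroup.normalizer (P : Set G) ∧ U ≤ P := by
  obtain ⟨P, hP, hPu⟩ := Lib.Coprime.exists_invariant_sylow_ge
    (zpowers_le_normalizer_three hG hu hc) (coprime_three hG hab hu) (Or.inl inferInstance) p U hUY
    hU (Subgroup.zpowers_le.2 huU)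
  exact ⟨_, ⟨Subgroup.map_subtype_le _, Lib.Coprime.card_sylow_map P⟩,
    hPu (Subgroup.mem_zpowers u), hP⟩

variable (hA : NoInverted G Ω)
include hA

/-- A bad element in a normal subgroup of a group moving `c`: no four group. -/
theorem no_four [IsSimpleGroup G] {X : Subgroup G} {c : Ω} (hXc : X ≤ stabilizer G c) {u j g : G}
    (hu : u ∈ invAt G c) (huX : u ∈ Subgroup.normalizer (X : Set G)) (hj : j ∈ X) (hj1 : j ≠ 1)
    (hodd : Odd (orderOf j)) (hinv : u * j * u⁻¹ = j⁻¹)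
    (hg : g ∈ Subgroup.normalizer (X : Set G)) (hgc : g • c ≠ c) :
    ¬ ∃ a ∈ Subgroup.normalizer (X : Set G), ∃ b ∈ Subgroup.normalizer (X : Set G),
      orderOf a = 2 ∧ orderOf b = 2 ∧ a ≠ b ∧ a * b = b * a := fun hfour' =>
  hj1 (hA _ (normalizer_ne_top hG (fun h => hj1 (by rwa [h, Subgroup.mem_bot] at hj)) hXc) hfour'
    ⟨g • c, c, hgc, ⟨g * u * g⁻¹, OneFix.conj_mem_invAt hu, mul_mem (mul_mem hg huX) (inv_mem hg)⟩,
      u, hu, huX⟩ u j c hu huX (Subgroup.le_normalizer hj) (hXc hj) hodd hinv)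

omit hA in
omit hG in
/-- A subgroup normal in a group fixes the orbit of each of its fixed points. -/
theorem le_stabilizer_smul {X : Subgroup G} {c : Ω} (hXc : X ≤ stabilizer G c) {n : G}
    (hn : n ∈ Subgroup.normalizer (X : Set G)) : X ≤ stabilizer G (n • c) := by
  intro x hx
  have h : (n⁻¹ * x * n) • c = c := hXc ((Subgroup.mem_normalizer_iff''.1 hn x).1 hx)
  rw [mul_assoc, mul_smul, inv_smul_eq_iff] at h
  rw [mem_stabilizer_iff, ← mul_smul, h]

omit hG hA in
omit [MulAction G Ω] [Finite G] in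
theorem eq_of_no_four {N : Subgroup G}
    (h : ¬ ∃ a ∈ N, ∃ b ∈ N, orderOf a = 2 ∧ orderOf b = 2 ∧ a ≠ b ∧ a * b = b * a) :
    ∀ a ∈ N, ∀ b ∈ N, orderOf a = 2 → orderOf b = 2 → a * b = b * a → a = b :=
  fun a ha b hb h1 h2 h3 => by_contra fun hne => h ⟨a, ha, b, hb, h1, h2, hne, h3⟩

omit hA in
/-- A normal subgroup fixing the centre of a block fixes all of it. -/
theorem le_stabilizer_block {X : Subgroup G} {c x : Ω} {u : G} {B : Set Ω}
    (hXc : X ≤ stabilizer G c) (hB : Midpoint.Mid (Subgroup.normalizer (X : Set G)) u c B)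
    (hx : x ∈ B) : X ≤ stabilizer G x := by
  obtain ⟨r, hr, -, hw, hwx⟩ := hB.exists_mid x hx x hx
  exact hG.eq_of_fix hw.1 hw.2 hwx ▸ le_stabilizer_smul hXc hr

variable (hfour : ∃ a b : G, orderOf a = 2 ∧ orderOf b = 2 ∧ a ≠ b ∧ a * b = b * a)

omit hA in
/-- Facts on a translate. -/
theorem swap_of_moved {c x : Ω} {u : G} (hu : u ∈ invAt G c) (hx : x ≠ c) :
    x ≠ u • x ∧ u ∈ swapSet G x (u • x) :=
  ⟨fun h => hx (hG.eq_of_fix hu.1 h.symm hu.2), hu.1, rfl⟩

/-- Stage 1: a bad element yields a member. -/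
theorem exists_member [IsSimpleGroup G] {p : ℕ} [Fact p.Prime] {a b c : Ω} (hab : a ≠ b) {u j : G}
    (hu : u ∈ swapSet G a b) (hc : u • c = c) (hj : j ∈ pairStab G a b) (hjc : j • c = c)
    (hjp : orderOf j = p) (hinv : u * j * u⁻¹ = j⁻¹) :
    ∃ (a' b' c' : Ω) (u' : G) (P : Subgroup G), Member p a' b' c' u' P := by
  set S : Set (Subgroup G) := {P | ∃ (a b c : Ω) (u : G), a ≠ b ∧ u ∈ swapSet G a b ∧ u • c = c ∧
    SylowIn p P (pairStab G a b ⊓ stabilizer G c) ∧ u ∈ Subgroup.normalizer (P : Set G) ∧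
    ∃ j ∈ P, j ≠ 1 ∧ u * j * u⁻¹ = j⁻¹} with hS
  have hne : S.Nonempty := by
    have huj : u ∈ Subgroup.normalizer (Subgroup.zpowers j : Set G) := by
      rw [Subgroup.mem_normalizer_iff_map_conj_eq, MonoidHom.map_zpowers]
      show Subgroup.zpowers (u * j * u⁻¹) = Subgroup.zpowers j
      rw [hinv, Subgroup.zpowers_inv]
    obtain ⟨P, hP, huP, hle⟩ := exists_three_ge hG hab hu hc
      (IsPGroup.of_card (n := 1) (by rw [Nat.card_zpowers, hjp, pow_one]))
      (Subgroup.zpowers_le.2 ⟨hj, hjc⟩) huj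
    exact ⟨P, a, b, c, u, hab, hu, hc, hP, huP, j, hle (Subgroup.mem_zpowers j),
      fun h => (Fact.out : p.Prime).ne_one (by rw [← hjp, h, orderOf_one]), hinv⟩
  obtain ⟨P, ⟨a, b, c, u, hab, hu, hc, hP, huP, j, hjP, hj1, hinv⟩, hmax⟩ :=
    Set.exists_max_image S (fun P => Nat.card P) (Set.toFinite _) hne
  have hPD : P ≤ pairStab G a b := hP.1.trans inf_le_left
  have hPc : P ≤ stabilizer G c := hP.1.trans inf_le_right
  by_cases hall : ∀ g ∈ pairStab G a b ⊓ Subgroup.normalizer (P : Set G), g • c = c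
  · exact ⟨a, b, c, u, P, hab, hu, hc,
      SylowIn.of_normalizer hPD hP fun g hg => ⟨hg.1, hall g hg⟩, hPc, huP, j, hjP, hj1, hinv⟩
  push Not at hall
  obtain ⟨g, hg, hgc⟩ := hall
  have hodd : Odd (orderOf j) :=
    (hG.odd_pairStab hab).of_dvd_nat ((pairStab G a b).orderOf_dvd_natCard (hPD hjP))
  have hN := no_four hG hA hPc ⟨hu.1, hc⟩ huP hjP hj1 hodd hinv hg.2 hgc
  obtain ⟨B, hB⟩ := Midpoint.exists_mid_block hG (eq_of_no_four hN) ⟨hu.1, hc⟩ huP ⟨g, hg.2, hgc⟩
  obtain ⟨x, hxB, hxc⟩ := hB.exists_ne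
  obtain ⟨hne', hswap⟩ := swap_of_moved hG (u := u) ⟨hu.1, hc⟩ hxc
  have hPY : P ≤ pairStab G x (u • x) ⊓ stabilizer G c :=
    le_inf (le_inf (le_stabilizer_block hG hPc hB hxB)
      (le_stabilizer_block hG hPc hB (hB.smul_invol_mem huP hB.mem ⟨hu.1, hc⟩ hxB))) hPc
  obtain ⟨P', hP', huP', hPP'⟩ := exists_three_ge hG hne' hswap hc hP.isPGroup hPY huP
  have hPeq : P = P' := Subgroup.eq_of_le_of_card_ge hPP'
    (hmax P' ⟨_, _, c, u, hne', hswap, hc, hP', huP', j, hPP' hjP, hj1, hinv⟩)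
  subst hPeq
  exact ⟨_, _, c, u, P, hne', hswap, hc,
    SylowIn.of_normalizer (hP'.1.trans inf_le_left) hP' fun h hh =>
      ⟨hh.1, hB.smul_center ⟨hu.1, hc⟩ huP hh.2 hxB hh.1.1 hh.1.2⟩, hPc, huP, j, hjP, hj1, hinv⟩

omit hA in
/-- A second triangle containing the inverted elements of a member gives a member with the same
inverted elements. -/
theorem exists_member_of_invGen {p : ℕ} [Fact p.Prime] {a b c a' b' : Ω} {u : G} {P : Subgroup G}
    (hM : Member p a b c u P) (hab' : a' ≠ b') (hu' : u ∈ swapSet G a' b')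
    (hV : invGen P u ≤ pairStab G a' b') :
    ∃ P', Member p a' b' c u P' ∧ invGen P' u = invGen P u := by
  have hVp : IsPGroup p (invGen P u) := hM.sylow.isPGroup.to_le (invGen_le P u)
  obtain ⟨S, hVS, hS⟩ := Lib.Coprime.exists_invariant_sylow_ge
    (BenderOne8.zpowers_le_normalizer_pairStab hu') (BenderOne8.coprime_zpowers hG hab' hu')
    (Or.inl inferInstance) p (invGen P u) hV hVp (Subgroup.zpowers_le.2 (invGen_normalizer hu'.1))
  set P' := (S : Subgroup ↥(pairStab G a' b')).map (pairStab G a' b').subtype with hP'def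
  have hP' : SylowIn p P' (pairStab G a' b') :=
    ⟨Subgroup.map_subtype_le _, Lib.Coprime.card_sylow_map S⟩
  have huP' : u ∈ Subgroup.normalizer (P' : Set G) := hS (Subgroup.mem_zpowers u)
  have hPodd : Odd (Nat.card P) :=
    (hG.odd_pairStab hM.ne).of_dvd_nat (Subgroup.card_dvd_of_le hM.sylow.1)
  have hP'odd : Odd (Nat.card P') :=
    (hG.odd_pairStab hab').of_dvd_nat (Subgroup.card_dvd_of_le hP'.1)
  have hle : (fun k => k * u * k⁻¹) '' (P : Set G) ⊆ (fun k => k * u * k⁻¹) '' (invGen P u : Set G) := by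
    rintro _ ⟨k, hk, rfl⟩
    exact exists_invGen_conj hPodd hM.swap.1 hM.inv hk
  have heq : (fun k => k * u * k⁻¹) '' (invGen P u : Set G) = (fun k => k * u * k⁻¹) '' (P' : Set G) := by
    refine Set.eq_of_subset_of_ncard_le (Set.image_mono hVS) ?_ (Set.toFinite _)
    calc ((fun k => k * u * k⁻¹) '' (P' : Set G)).ncard = BenderOne8.cnt P u := by
          show BenderOne8.cnt P' u = BenderOne8.cnt P u
          rw [BenderOne8.cnt_sylowIn hG hab' hu' hP' huP',
            BenderOne8.cnt_sylowIn hG hM.ne hM.swap hM.sylow hM.inv, hG.card_invAt a' a]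
      _ ≤ _ := Set.ncard_le_ncard hle (Set.toFinite _)
  have hVc : invGen P u ≤ stabilizer G c := (invGen_le P u).trans hM.le
  have hP'c : P' ≤ stabilizer G c := by
    intro k hk
    obtain ⟨r, hr, hrk⟩ : k * u * k⁻¹ ∈ (fun k => k * u * k⁻¹) '' (invGen P u : Set G) :=
      heq ▸ ⟨k, hk, rfl⟩
    have hcom : u * (r⁻¹ * k) = r⁻¹ * k * u := by
      calc u * (r⁻¹ * k) = r⁻¹ * (r * u * r⁻¹) * k := by group
        _ = r⁻¹ * (k * u * k⁻¹) * k := by rw [show r * u * r⁻¹ = k * u * k⁻¹ from hrk]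
        _ = r⁻¹ * k * u := by group
    have h1 := hG.smul_eq_of_commute ⟨hM.swap.1, hM.fix⟩ hcom
    rw [mul_smul, inv_smul_eq_iff, mem_stabilizer_iff.1 (hVc hr)] at h1
    exact h1
  refine ⟨P', ⟨hab', hu', hM.fix, hP', hP'c, huP', ?_⟩, le_antisymm ?_ ?_⟩
  · obtain ⟨j, hj, hj1, hinv⟩ := hM.bad
    exact ⟨j, hVS (mem_invGen hj hinv), hj1, hinv⟩
  · refine (Subgroup.closure_le _).2 fun x ⟨hx, hinv⟩ => ?_
    obtain ⟨r, hr, -, hrx⟩ :=
      exists_sqrt hu'.1 (hP'odd.of_dvd_nat (P'.orderOf_dvd_natCard hx)) hinv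
    obtain ⟨s, hs, hsr⟩ : r * u * r⁻¹ ∈ (fun k => k * u * k⁻¹) '' (invGen P u : Set G) :=
      heq ▸ ⟨r, (Subgroup.zpowers_le.2 hx) hr, rfl⟩
    have hx' : x = s * (u * s⁻¹ * u⁻¹) := by
      calc x = x * u * u⁻¹ := by group
        _ = r * u * r⁻¹ * u⁻¹ := by rw [hrx]
        _ = s * u * s⁻¹ * u⁻¹ := by rw [show s * u * s⁻¹ = r * u * r⁻¹ from hsr]
        _ = s * (u * s⁻¹ * u⁻¹) := by group
    rw [hx']
    exact mul_mem hs ((Subgroup.mem_normalizer_iff.1 (invGen_normalizer hu'.1) _).1 (inv_mem hs))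
  · exact (Subgroup.closure_le _).2 fun x ⟨hx, hinv⟩ =>
      mem_invGen (hVS (mem_invGen hx hinv)) hinv

omit hA in
/-- The next triangle of a member is again a member. -/
theorem exists_next [Finite Ω] {p : ℕ} [Fact p.Prime] {a b c : Ω} {u : G} {P : Subgroup G}
    (hM : Member p a b c u P) : ∃ (d : Ω) (v : G), Member p c a d v P := by
  haveI : Fact (Nat.Prime 2) := ⟨Nat.prime_two⟩
  have hca : c ≠ a := fun h => hM.ne ((h ▸ hM.fix).symm.trans hM.swap.2)
  have hP : SylowIn p P (pairStab G c a) :=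
    hM.sylow.of_ge (le_inf hM.le (hM.sylow.1.trans inf_le_left))
      (hG.card_pairStab_triangle hM.ne hM.swap hM.fix).symm
  obtain ⟨v, hv, hvP⟩ := exists_swap_normalizer hG hca hP
  have hodd : Odd (Nat.card (fixed Ω P)) := by
    have h := modEq_fixed (R := Subgroup.zpowers u)
      (IsPGroup.of_card (p := 2) (n := 1) (by rw [Nat.card_zpowers, hM.swap.1, pow_one]))
      (fixed Ω P) (fun r hr y hy => smul_mem_fixed ((Subgroup.zpowers_le.2 hM.inv) hr) hy)
    have hone : fixed Ω P ∩ fixed Ω (Subgroup.zpowers u) = {c} := by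
      refine Set.eq_singleton_iff_unique_mem.2 ⟨⟨fun x hx => hM.le hx, fun r hr => ?_⟩, fun y hy =>
        hG.eq_of_fix hM.swap.1 (hy.2 u (Subgroup.mem_zpowers u)) hM.fix⟩
      exact (Subgroup.zpowers_le.2 (show u ∈ stabilizer G c from hM.fix)) hr
    rw [hone, Nat.card_coe_set_eq {c}, Set.ncard_singleton] at h
    exact Nat.odd_iff.2 h
  obtain ⟨d, hd, hvd⟩ := exists_fixed_of_odd hv.1 (fun y hy => smul_mem_fixed hvP hy) hodd
  refine ⟨d, v, hca, hv, hvd, hP, fun x hx => hd x hx, hvP, ?_⟩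
  have hPodd : Odd (Nat.card P) :=
    (hG.odd_pairStab hM.ne).of_dvd_nat (Subgroup.card_dvd_of_le hM.sylow.1)
  by_contra hno
  push Not at hno
  have hv1 : BenderOne8.cnt P v = 1 := by
    refine BenderOne8.cnt_eq_one fun k hk => Subgroup.mem_centralizer_singleton_iff.2 ?_
    obtain ⟨r, hr, hrk⟩ := exists_invGen_conj hPodd hv.1 hvP hk
    have hbot : invGen P v = ⊥ := Subgroup.closure_eq_bot_iff.2 fun x ⟨hx, hinv⟩ => by
      by_contra hx1
      exact hno x hx (by simpa using hx1) hinv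
    rw [hbot, Subgroup.mem_bot] at hr
    rw [hr, one_mul, inv_one, mul_one] at hrk
    exact mul_inv_eq_iff_eq_mul.1 hrk.symm
  rw [BenderOne8.cnt_sylowIn hG hca hv hP hvP, hG.card_invAt c a,
    ← BenderOne8.cnt_sylowIn hG hM.ne hM.swap hM.sylow hM.inv] at hv1
  obtain ⟨j, hj, hj1, hinv⟩ := hM.bad
  have hall : ∀ x ∈ (fun k => k * u * k⁻¹) '' (P : Set G), x = u := by
    intro x hx
    have h1 := (Set.ncard_le_one (Set.toFinite _)).1 (le_of_eq hv1)
    exact h1 x hx u ⟨1, P.one_mem, by simp⟩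
  have hju := hall _ ⟨j, hj, rfl⟩
  have hcom : u * j * u⁻¹ = j := by
    calc u * j * u⁻¹ = (j * u * j⁻¹) * j * u⁻¹ := by rw [show j * u * j⁻¹ = u from hju]
      _ = j := by group
  have h2 : orderOf j ∣ 2 := orderOf_dvd_of_pow_eq_one (by
    rw [pow_two]; exact mul_eq_one_iff_eq_inv.2 (hcom.symm.trans hinv))
  exact hj1 (orderOf_eq_one_iff.1 (Nat.Coprime.eq_one_of_dvd (Nat.coprime_two_right.2
    (hPodd.of_dvd_nat (P.orderOf_dvd_natCard hj))) h2))

omit hA in
/-- Either the core fixes the fixed point or some centraliser of the inverted elements moves it. -/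
theorem core_le_or_moves {p : ℕ} [Fact p.Prime] {a b c : Ω} {u : G} {P : Subgroup G}
    (hM : Member p a b c u P) : core p (pairStab G a b) ≤ stabilizer G c ∨
      ∃ w ∈ core p (pairStab G a b), w ∈ Subgroup.centralizer (invGen P u : Set G) ∧ w • c ≠ c := by
  have hp2 : p ≠ 2 := by
    obtain ⟨j, hj, hj1, -⟩ := hM.bad
    refine LocalTools.ne_two_of_dvd (hG.odd_pairStab hM.ne) ?_
    obtain ⟨k, hk⟩ := IsPGroup.iff_orderOf.1 hM.sylow.isPGroup ⟨j, hj⟩
    rw [Subgroup.orderOf_mk] at hk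
    refine ((dvd_pow_self p (fun h0 => hj1 (orderOf_eq_one_iff.1 ?_))).trans hk.symm.dvd).trans
      ((pairStab G a b).orderOf_dvd_natCard (hM.sylow.1 hj))
    rw [hk, h0, pow_zero]
  refine or_iff_not_imp_left.2 fun h => exists_centralizer_moves hG ⟨hM.swap.1, hM.fix⟩
    hM.sylow.isPGroup hM.le hM.inv
    ((hG.odd_pairStab hM.ne).of_dvd_nat (Subgroup.card_dvd_of_le (Subgroup.map_subtype_le _)))
    (not_dvd_card_core p _)
    (normalizer_le_core p _
      (BenderOne8.zpowers_le_normalizer_pairStab hM.swap (Subgroup.mem_zpowers u)))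
    ((invGen_le P u).trans (hM.sylow.1.trans
      (Subgroup.le_normalizer.trans (normalizer_le_core p _)))) h hp2

include hfour

/-- There are no members. -/
theorem not_member [IsSimpleGroup G] [Finite Ω] {p : ℕ} [Fact p.Prime] {a b c : Ω} {u : G}
    {P : Subgroup G} (hM : Member p a b c u P) : False := by
  by_cases hI : ∃ (a b c : Ω) (u : G) (P : Subgroup G), Member p a b c u P ∧
      ∃ w : G, w ∈ Subgroup.centralizer (invGen P u : Set G) ∧ w • c ≠ c ∧
        w ∈ core p (pairStab G a b)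
  · clear hM
    obtain ⟨a, b, c, u, P, hM, w, hwV, hwc, -⟩ := hI
    obtain ⟨j, hj, hj1, hinv⟩ := hM.bad
    have hu : u ∈ invAt G c := ⟨hM.swap.1, hM.fix⟩
    have hVc : invGen P u ≤ stabilizer G c := (invGen_le P u).trans hM.le
    have huV := invGen_normalizer (P := P) hu.1
    have hwN := Subgroup.centralizer_le_normalizer _ hwV
    have hN := no_four hG hA hVc hu huV (mem_invGen hj hinv) hj1
      ((hG.odd_pairStab hM.ne).of_dvd_nat ((pairStab G a b).orderOf_dvd_natCard (hM.sylow.1 hj)))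
      hinv hwN hwc
    obtain ⟨B, hB⟩ := Midpoint.exists_mid_block hG (eq_of_no_four hN) hu huV ⟨w, hwN, hwc⟩
    set T : Set Ω := {x | x ∈ B ∧ x ≠ c}
    obtain ⟨x, ⟨hxB, hxc⟩, hmax⟩ := Set.exists_max_image T
      (fun x => Nat.card (core p (pairStab G x (u • x)))) (Set.toFinite _) hB.exists_ne
    obtain ⟨hne', hswap⟩ := swap_of_moved hG hu hxc
    obtain ⟨P', hM', hP'V⟩ := exists_member_of_invGen hG hM hne' hswap (le_inf
      (le_stabilizer_block hG hVc hB hxB)
      (le_stabilizer_block hG hVc hB (hB.smul_invol_mem huV hB.mem hu hxB)))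
    refine false_of_core_le hG hA hfour hM' ?_ ?_
    · refine (core_le_or_moves hG hM').resolve_right ?_
      rintro ⟨y, hyW, hyV, hyc⟩
      rw [hP'V] at hyV
      have hyD := (Subgroup.map_subtype_le _) hyW
      exact hyc (hB.smul_center hu huV (Subgroup.centralizer_le_normalizer _ hyV) hxB hyD.1 hyD.2)
    · obtain ⟨r, hrN, hrB, hrw, hrx⟩ := hB.exists_mid c hB.mem x hxB
      have hrx' := smul_swap (⟨hrw.1, hrx⟩ : r * u * r⁻¹ ∈ swapSet G c x)
      have hus : u • r⁻¹ • x = r⁻¹ • c := by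
        rw [mul_smul, mul_smul] at hrx'
        rw [eq_inv_smul_iff, hrx']
      have hxB' : r⁻¹ • x ∈ B :=
        hB.smul_mem r⁻¹ (inv_mem hrN) (r • c) (hrB c hB.mem) (by rw [inv_smul_smul]; exact hB.mem)
          x hxB
      have hxc' : r⁻¹ • x ≠ c := fun h => by
        rw [h, hu.2, eq_inv_smul_iff] at hus
        rw [inv_smul_eq_iff, hus] at h
        exact hxc h
      have hmap : (pairStab G (r⁻¹ • x) (u • r⁻¹ • x)).map (MulAut.conj r).toMonoidHom =
          pairStab G c x := by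
        rw [hus, Subgroup.map_inf _ _ _ (MulAut.conj r).injective,
          ← stabilizer_smul_eq_stabilizer_map_conj, ← stabilizer_smul_eq_stabilizer_map_conj,
          smul_inv_smul, smul_inv_smul, inf_comm]
      calc Nat.card (core p (pairStab G c x))
          = Nat.card (core p (pairStab G (r⁻¹ • x) (u • r⁻¹ • x))) := by
            rw [← hmap, ← map_core, Subgroup.card_map_of_injective (MulAut.conj r).injective]
        _ ≤ _ := hmax _ ⟨hxB', hxc'⟩
  · have hle : ∀ {a b c : Ω} {u : G} {P : Subgroup G}, Member p a b c u P →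
        core p (pairStab G a b) ≤ stabilizer G c := fun {a b c u P} h =>
      (core_le_or_moves hG h).resolve_right fun ⟨w, h1, h2, h3⟩ =>
        hI ⟨a, b, c, u, P, h, w, h2, h3, h1⟩
    set T : Set (Ω × Ω) := {z | ∃ (d : Ω) (v : G) (Q : Subgroup G), Member p z.1 z.2 d v Q}
    obtain ⟨⟨a', b'⟩, ⟨d, v, Q, hM'⟩, hmax⟩ := Set.exists_max_image T
      (fun z => Nat.card (core p (pairStab G z.1 z.2))) (Set.toFinite _)
      ⟨(a, b), c, u, P, hM⟩
    obtain ⟨e, w, hnext⟩ := exists_next hG hM'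
    exact false_of_core_le hG hA hfour hM' (hle hM') (hmax (d, a') ⟨e, w, Q, hnext⟩)

/-- Property (F). -/
theorem noBadAct [IsSimpleGroup G] [Finite Ω] : NoBadAct G Ω := by
  intro v x c d hv hd hxc hxd hinv
  by_contra hx1
  obtain ⟨hne, hswap⟩ := swap_of_moved hG hv hd
  have hxvd : x • v • d = v • d := by
    have h : x * v = v * x⁻¹ := by
      rw [← hinv, invol_inv hv.1, ← mul_assoc, ← mul_assoc, invol_mul_self hv.1, one_mul]
    rw [← mul_smul, h, mul_smul, inv_smul_eq_iff.2 hxd.symm]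
  have hmem : x ∈ pairStab G d (v • d) := ⟨hxd, hxvd⟩
  obtain ⟨p, hp, hpx⟩ := Nat.exists_prime_and_dvd (n := orderOf x)
    (fun h => hx1 (orderOf_eq_one_iff.1 h))
  haveI : Fact p.Prime := ⟨hp⟩
  set k := orderOf x / p
  have hk : orderOf (x ^ k) = p := orderOf_pow_orderOf_div (orderOf_pos x).ne' hpx
  have hinvk : v * x ^ k * v⁻¹ = (x ^ k)⁻¹ := by rw [← conj_pow, hinv, inv_pow]
  obtain ⟨a, b, c', u, P, hM⟩ := exists_member hG hA hne hswap hv.2 (pow_mem hmem k)
    (pow_mem (show x ∈ stabilizer G c from hxc) k) hk hinvk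
  exact not_member hG hA hfour hM

end Cfsg.Agent.Lib.BenderOne.NoBadProof

namespace Cfsg.Agent.Lib.BenderOne

open Subgroup MulAction
open Cfsg.Agent.Lib.Involutions.Basic Cfsg.Agent.Lib.Involutions.StronglyEmbedded
open Cfsg.Agent.Lib.BenderOne20

universe u

/-- Node B. -/
theorem propNoBad : PropNoBad.{u} := by
  intro _ X _ _ K h hA v j g hv hvK hj hg hgj hinv
  haveI := h.simple
  obtain ⟨a, -, b, -, ha, hb, hne, hab⟩ := h.four
  exact NoBadProof.noBadAct (oneFix_of_stronglyEmbedded h.se) (noInverted h hA)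
    ⟨a, b, ha, hb, hne, hab⟩ v j ((1 : X) : X ⧸ K) (g : X ⧸ K)
    ⟨hv, smul_coset_eq_iff.2 (by simpa using hvK)⟩
    (fun he => hg (by simpa using QuotientGroup.eq.1 he.symm))
    (smul_coset_eq_iff.2 (by simpa using hj)) (smul_coset_eq_iff.2 (by simpa [mul_assoc] using hgj))
    hinv

end Cfsg.Agent.Lib.BenderOne
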