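import Cfsg.Agent.Lib.BenderOne.Interface
import Cfsg.Agent.Lib.Involutions.StronglyEmbedded

/-!
# Bender's theorem, part I: assembly of the nodes, and the rank-one set-up on the cosets
-/

set_option autoImplicit false

namespace Cfsg.Agent.Lib.BenderOne

open MulAction Subgroup
open Cfsg.Agent.Lib.Involutions.Basic Cfsg.Agent.Lib.Involutions.StronglyEmbedded
open Cfsg.Agent.Lib.BenderOne20 (HasFour)

universe u

variable {G : Type u} [Group G] [Finite G] {H Q : Subgroup G}

/-- A strongly embedded subgroup misses some involution. -/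
theorem exists_invol_not_mem (hSE : Cfsg.IsStronglyEmbedded H) :
    ∃ t : G, orderOf t = 2 ∧ t ∉ H := by
  obtain ⟨s, hs⟩ := exists_invol (G := H) hSE.2.1
  obtain ⟨g, hg⟩ : ∃ g : G, g ∉ H := by
    by_contra h
    push Not at h
    exact hSE.1 (eq_top_iff.2 fun x _ => h x)
  refine ⟨g * s * g⁻¹, (orderOf_conj_eq g (s : G)).trans (by rw [Subgroup.orderOf_coe, hs]),
    fun h => hg (mem_of_conj_mem hSE (by rw [Subgroup.orderOf_coe, hs]) s.2 h)⟩

omit [Finite G] in
theorem smul_eq_self_iff {x g : G} :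
    x • (g : G ⧸ H) = (g : G ⧸ H) ↔ g⁻¹ * (x * g) ∈ H := by
  rw [smul_coset_eq_iff, mul_assoc]

omit [Finite G] in
theorem ne_one_iff {g : G} : (g : G ⧸ H) ≠ ((1 : G) : G ⧸ H) ↔ g ∉ H := by
  rw [ne_eq, QuotientGroup.eq, mul_one, inv_mem_iff]

/-- A regular normal subgroup makes the action on the cosets a split rank-one set-up. -/
theorem hyp (hSE : Cfsg.IsStronglyEmbedded H) (hfour : HasFour H) (hcore : H.normalCore = ⊥)
    (hR : Regular H Q) {t : G} (ht : orderOf t = 2) (htH : t ∉ H) :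
    BenderSuzuki.Hyp G (G ⧸ H) ((1 : G) : G ⧸ H) t Q := by
  set a : G ⧸ H := ((1 : G) : G ⧸ H) with ha
  have hta : t • a = (t : G ⧸ H) := by
    rw [ha, Quotient.smul_mk, smul_eq_mul, mul_one]
  have hst : stabilizer G a = H := stabilizer_quotient H
  have hmemt : ∀ x : G, x ∈ stabilizer G (t • a) ↔ t⁻¹ * (x * t) ∈ H := fun x => by
    rw [hta, mem_stabilizer_iff, smul_eq_self_iff]
  have hD : (stabilizer G a ⊓ stabilizer G (t • a) : Subgroup G) =
      H ⊓ H.map (MulAut.conj t).toMonoidHom := by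
    ext x
    rw [mem_inf, mem_inf, hst, hmemt, mem_conj_iff, mul_assoc]
  have hDodd : Odd (Nat.card ↥(stabilizer G a ⊓ stabilizer G (t • a) : Subgroup G)) := by
    rw [hD]; exact hSE.2.2 t htH
  have htt := invol_mul_self ht
  have hsta : ∀ x : G, x ∈ H → x ∈ stabilizer G a := fun x hx => hst.symm ▸ hx
  refine ⟨⟨?_, htt, invol_ne_one ht, ?_, fun x hx => hsta x (hR.le hx), ?_, ?_, ?_, ?_, hDodd⟩, ?_, ?_⟩
  · rw [is_two_pretransitive_iff]
    intro b c d e hbc hde
    obtain ⟨g₁, rfl⟩ := exists_smul_eq G a b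
    obtain ⟨g₂, rfl⟩ := exists_smul_eq G a d
    obtain ⟨x, hx⟩ := QuotientGroup.mk_surjective (g₁⁻¹ • c)
    obtain ⟨y, hy⟩ := QuotientGroup.mk_surjective (g₂⁻¹ • e)
    have hxH : x ∉ H := ne_one_iff.1 fun h => hbc (by
      rw [← ha] at h
      rw [← h, hx, smul_inv_smul])
    have hyH : y ∉ H := ne_one_iff.1 fun h => hde (by
      rw [← ha] at h
      rw [← h, hy, smul_inv_smul])
    obtain ⟨q, hq, hqxy⟩ := hR.trans x y hxH hyH
    have hqa : q • a = a := mem_stabilizer_iff.1 (hsta q (hR.le hq))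
    have hqx : q • (x : G ⧸ H) = (y : G ⧸ H) := by
      rw [Quotient.smul_mk, smul_eq_mul, eq_comm, QuotientGroup.eq]
      exact hqxy
    exact ⟨g₂ * q * g₁⁻¹, by rw [mul_smul, mul_smul, inv_smul_smul, hqa],
      by rw [mul_smul, mul_smul, ← hx, hqx, hy, smul_inv_smul]⟩
  · rw [hst]; exact htH
  · rw [hst]; exact hR.conj_mem
  · rw [eq_bot_iff]
    rintro q ⟨hq, hq'⟩
    exact mem_bot.2 (hR.free t htH q hq ((hmemt q).1 hq'))
  · refine le_antisymm (sup_le (fun x hx => hsta x (hR.le hx)) inf_le_left) fun h hh => ?_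
    rw [hst] at hh
    obtain ⟨q, hq, hq'⟩ := hR.trans t (h * t) htH fun hc =>
      htH ((mul_mem_cancel_left hh).1 hc)
    have hd : q⁻¹ * h ∈ stabilizer G a ⊓ stabilizer G (t • a) := by
      refine mem_inf.2 ⟨hsta _ (mul_mem (inv_mem (hR.le hq)) hh), (hmemt _).2 ?_⟩
      have h2 := inv_mem hq'
      simpa [mul_assoc] using h2
    simpa using mul_mem (mem_sup_left (T := stabilizer G a ⊓ stabilizer G (t • a)) hq)
      (mem_sup_right (S := Q) hd)
  · obtain ⟨s, hsH, hs⟩ : ∃ s ∈ H, orderOf s = 2 :=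
      ⟨hfour.choose, hfour.choose_spec.1, hfour.choose_spec.2.choose_spec.2.1⟩
    obtain ⟨q, hq, hq'⟩ := hR.trans t (s * t) htH fun hc =>
      htH ((mul_mem_cancel_left hsH).1 hc)
    set d := q⁻¹ * s with hd
    have hdD : d ∈ (stabilizer G a ⊓ stabilizer G (t • a) : Subgroup G) := by
      refine mem_inf.2 ⟨hsta _ (mul_mem (inv_mem (hR.le hq)) hsH), (hmemt _).2 ?_⟩
      have h2 := inv_mem hq'
      simpa [hd, mul_assoc] using h2
    have hdH : d ∈ H := mul_mem (inv_mem (hR.le hq)) hsH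
    have hdd : d * d ∈ Q := by
      have e : d * d = (d * q * d⁻¹)⁻¹ * q⁻¹ := by
        have hsq : s = q * d := by rw [hd, mul_inv_cancel_left]
        have h1 : q * d * (q * d) = 1 := hsq ▸ invol_mul_self hs
        calc d * d = (d * q * d⁻¹)⁻¹ * q⁻¹ * (q * d * (q * d)) := by group
          _ = (d * q * d⁻¹)⁻¹ * q⁻¹ := by rw [h1, mul_one]
      rw [e]; exact mul_mem (inv_mem (hR.conj_mem d hdH q hq)) (inv_mem hq)
    have hdd1 : d * d = 1 := hR.free t htH _ hdd ((hmemt _).1 (mul_mem hdD hdD).2)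
    have hd1 : d = 1 := by
      by_contra hne
      exact (odd_card_iff_no_invol _).1 hDodd d hdD (orderOf_eq_prime (by rw [pow_two, hdd1]) hne)
    have hsQ : s ∈ Q := by
      have : s = q := by rwa [hd, inv_mul_eq_one, eq_comm] at hd1
      exact this ▸ hq
    rw [even_iff_two_dvd, ← hs]
    exact Subgroup.orderOf_dvd_natCard _ hsQ
  · have hker : (toPermHom G (G ⧸ H)).ker = ⊥ := by rw [← normalCore_eq_ker, hcore]
    exact ⟨fun h => (MonoidHom.ker_eq_bot_iff _).1 hker (Equiv.Perm.ext h)⟩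
  · obtain ⟨x, -, y, -, hx, hy, hne, hxy⟩ := hfour
    exact ⟨x, y, invol_ne_one hx, invol_ne_one hy, hne, invol_mul_self hx, invol_mul_self hy, hxy⟩

/-- Part II turns a regular normal subgroup of `H` into a `2`-group. -/
theorem split_of_regular (hII : BenderSuzuki.PropMain.{u, u}) (hSE : Cfsg.IsStronglyEmbedded H)
    (hfour : HasFour H) (hcore : H.normalCore = ⊥) (hR : Regular H Q) : Split H := by
  obtain ⟨t, ht, htH⟩ := exists_invol_not_mem hSE
  exact ⟨Q, (hII G (G ⧸ H) _ t Q (hyp hSE hfour hcore hR ht htH)).1, hR⟩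

/-- Part I from its nodes. -/
theorem propSplit (hII : BenderSuzuki.PropMain.{u, u}) (hred : PropReduction.{u})
    (hA : PropCoreCentral.{u}) (hB : PropNoBad.{u}) (hC : PropTwoTrans.{u})
    (hC2 : PropRegular.{u}) : PropSplit.{u} := by
  refine hred fun X _ _ K h => ?_
  have h1 := hA hII X K h
  have h2 := hB hII X K h h1
  obtain ⟨Q, hQ⟩ := hC2 hII X K h h1 h2 (hC X K h h2)
  exact split_of_regular hII h.se h.four h.core hQ

end Cfsg.Agent.Lib.BenderOne
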