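import Cfsg.Agent.Lib.BenderOne.Targets
import Cfsg.Agent.Lib.BenderOne.Assemble

/-!
# Bender's theorem, part I: reduction to a simple group and a maximal subgroup
-/

set_option autoImplicit false
set_option linter.style.haveILetI false

namespace Cfsg.Agent.Lib.BenderOne

open Subgroup
open Cfsg.Agent.Lib.Involutions.Basic Cfsg.Agent.Lib.Involutions.StronglyEmbedded
open Cfsg.Agent.Lib.BenderOne20 (HasFour)

universe u

variable {G : Type u} [Group G] [Finite G] {H M : Subgroup G}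

/-- The trace of a strongly embedded subgroup on a subgroup with an involution of it. -/
theorem subgroupOf_stronglyEmbedded (hSE : Cfsg.IsStronglyEmbedded H) (hMH : ¬ M ≤ H)
    {t : G} (ht : orderOf t = 2) (htH : t ∈ H) (htM : t ∈ M) :
    Cfsg.IsStronglyEmbedded (H.subgroupOf M) := by
  refine of_forall_conj (fun h => hMH (subgroupOf_eq_top.1 h)) ?_ fun s hs hs2 g hg =>
    mem_subgroupOf.2 (mem_of_conj_mem hSE (by rw [orderOf_coe, hs2]) (mem_subgroupOf.1 hs)
      (by simpa [mem_subgroupOf] using hg))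
  have hts : (⟨t, htM⟩ : M) ∈ H.subgroupOf M := mem_subgroupOf.2 htH
  rw [even_iff_two_dvd, ← ht, ← Subgroup.orderOf_mk t htM]
  exact orderOf_dvd_natCard _ hts

/-- An overgroup of a strongly embedded subgroup, other than the group, is strongly embedded. -/
theorem stronglyEmbedded_of_le (hSE : Cfsg.IsStronglyEmbedded H) (hHM : H ≤ M) (hM : M ≠ ⊤) :
    Cfsg.IsStronglyEmbedded M := by
  obtain ⟨t₀, ht₀⟩ := exists_invol (G := H) hSE.2.1
  have h0 : orderOf (t₀ : G) = 2 := by rw [orderOf_coe, ht₀]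
  refine of_forall_conj hM ?_ fun t htM ht g hg => ?_
  · rw [even_iff_two_dvd, ← h0]
    exact orderOf_dvd_natCard _ (hHM t₀.2)
  have key : ∀ s ∈ M, orderOf s = 2 → ∃ m ∈ M, m * s * m⁻¹ ∈ H := by
    intro s hs hs2
    by_cases hMH : M ≤ H
    · exact ⟨1, one_mem _, by simpa using hMH hs⟩
    obtain ⟨m, hm⟩ := exists_conj_mem (subgroupOf_stronglyEmbedded hSE hMH h0 t₀.2 (hHM t₀.2))
      (u := ⟨s, hs⟩) ((Subgroup.orderOf_mk s hs).trans hs2)
    exact ⟨m, m.2, by simpa [mem_subgroupOf] using hm⟩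
  obtain ⟨m, hm, hmt⟩ := key t htM ht
  obtain ⟨m', hm', hmt'⟩ := key _ hg ((orderOf_conj_eq g t).trans ht)
  have h1 : m' * g * m⁻¹ ∈ H := by
    refine mem_of_conj_mem hSE ((orderOf_conj_eq m t).trans ht) hmt ?_
    have e : m' * g * m⁻¹ * (m * t * m⁻¹) * (m' * g * m⁻¹)⁻¹ =
        m' * (g * t * g⁻¹) * m'⁻¹ := by group
    rw [e]; exact hmt'
  have h2 := mul_mem (mul_mem (inv_mem hm') (hHM h1)) hm
  simpa [mul_assoc] using h2

/-- Nothing lies strictly between a strongly embedded subgroup and a split one containing it. -/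
theorem eq_of_split (hSE : Cfsg.IsStronglyEmbedded H) (hHM : H ≤ M)
    (hM : Cfsg.IsStronglyEmbedded M) (h : Split M) : H = M := by
  haveI : Fact (Nat.Prime 2) := ⟨Nat.prime_two⟩
  obtain ⟨Q, hQ, hR⟩ := h
  obtain ⟨t₀, ht₀⟩ := exists_invol (G := H) hSE.2.1
  have h0 : orderOf (t₀ : G) = 2 := by rw [orderOf_coe, ht₀]
  have ht0Q := mem_of_invol hM hQ hR (hHM t₀.2) h0
  refine le_antisymm hHM ?_
  by_contra hMH
  have hSE' := subgroupOf_stronglyEmbedded hSE hMH h0 t₀.2 (hHM t₀.2)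
  -- a central involution of `Q`
  haveI : Nontrivial ↥Q := ⟨⟨⟨_, ht0Q⟩, 1, fun h => invol_ne_one h0 (congrArg Subtype.val h)⟩⟩
  have := hQ.center_nontrivial
  obtain ⟨c, hc⟩ := exists_prime_orderOf_dvd_card' (G := Subgroup.center ↥Q) 2 (by
    obtain ⟨k, hk, hk'⟩ := (hQ.to_subgroup _).nontrivial_iff_card.1 this
    rw [hk']; exact dvd_pow_self 2 hk.ne')
  set z : G := ((c : ↥Q) : G) with hz
  have hz2 : orderOf z = 2 := by rw [hz, orderOf_coe, orderOf_coe, hc]
  have hzc : ∀ q ∈ Q, q * z = z * q := fun q hq =>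
    congrArg Subtype.val (mem_center_iff.1 c.2 ⟨q, hq⟩)
  have hzM : z ∈ M := hR.le (c : ↥Q).2
  -- every involution of `M` centralises `Q`
  have hall : ∀ s ∈ M, orderOf s = 2 → ∀ q ∈ Q, q * s = s * q := by
    intro s hs hs2 q hq
    obtain ⟨m, hm⟩ := isConj_iff.1 (isConj_involutions hSE' (s := ⟨z, hzM⟩) (t := ⟨s, hs⟩)
      ((Subgroup.orderOf_mk z hzM).trans hz2) ((Subgroup.orderOf_mk s hs).trans hs2))
    have hm' : (m : G) * z * (m : G)⁻¹ = s := congrArg Subtype.val hm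
    rw [← hm']
    have hq' : (m : G)⁻¹ * q * m ∈ Q := by simpa using hR.conj_mem _ (inv_mem m.2) q hq
    calc q * (↑m * z * (↑m)⁻¹) = ↑m * ((↑m)⁻¹ * q * ↑m * z) * (↑m)⁻¹ := by group
      _ = ↑m * (z * ((↑m)⁻¹ * q * ↑m)) * (↑m)⁻¹ := by rw [hzc _ hq']
      _ = ↑m * z * (↑m)⁻¹ * q := by group
  obtain ⟨s, hs, hsH⟩ := exists_invol_not_mem hSE'
  refine hsH (mem_subgroupOf.2 (centralizer_le hSE h0 t₀.2 ?_))
  rw [mem_centralizer_singleton_iff]
  exact (hall s s.2 (by rw [orderOf_coe, hs]) _ ht0Q).symm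

/-- With the induction hypothesis a group with a core-free strongly embedded subgroup having a
four group is simple, or the conclusion holds. -/
theorem split_of_normal (hSE : Cfsg.IsStronglyEmbedded H) (hfour : HasFour H)
    (hcore : H.normalCore = ⊥) (hbelow : Below.{u} (Nat.card G)) {N : Subgroup G} [N.Normal]
    (hN1 : N ≠ ⊥) (hN : N ≠ ⊤) : Split H := by
  haveI : Fact (Nat.Prime 2) := ⟨Nat.prime_two⟩
  have hO : Cfsg.oddCore G = ⊥ := by
    rw [eq_bot_iff, ← hcore]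
    exact normal_le_normalCore.2 (BenderOne20.oddCore_le hSE hfour)
  have hNH : ¬ N ≤ H := fun h => hN1 (eq_bot_iff.2 (hcore ▸ normal_le_normalCore.2 h))
  obtain ⟨t, htN, ht⟩ : ∃ t ∈ N, orderOf t = 2 := by
    by_contra h
    push Not at h
    exact hN1 (eq_bot_iff.2 (hO ▸ BenderOne20.le_oddCore ((odd_card_iff_no_invol N).2 h)))
  have hall : ∀ s : G, orderOf s = 2 → s ∈ N := fun s hs => by
    obtain ⟨c, hc⟩ := isConj_iff.1 (isConj_involutions hSE ht hs)
    exact hc ▸ (inferInstance : N.Normal).conj_mem t htN c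
  obtain ⟨a, haH, b, hbH, ha, hb, hne, hab⟩ := hfour
  have hSE' := subgroupOf_stronglyEmbedded hSE hNH ha haH (hall a ha)
  have hfour' : HasFour (H.subgroupOf N) :=
    ⟨⟨a, hall a ha⟩, mem_subgroupOf.2 haH, ⟨b, hall b hb⟩, mem_subgroupOf.2 hbH,
      (Subgroup.orderOf_mk a _).trans ha, (Subgroup.orderOf_mk b _).trans hb,
      fun h => hne (congrArg Subtype.val h), Subtype.ext hab⟩
  have hcore' : (H.subgroupOf N).normalCore = ⊥ := by
    rw [eq_bot_iff]
    refine le_trans (core_le_oddCore hSE') ?_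
    have : ((Cfsg.oddCore ↥N).map N.subtype).Normal := ConjAct.normal_of_characteristic_of_normal
    have h1 : (Cfsg.oddCore ↥N).map N.subtype ≤ Cfsg.oddCore G := BenderOne20.le_oddCore (by
      rw [Nat.card_congr (Subgroup.equivMapOfInjective _ _ N.subtype_injective).symm.toEquiv]
      exact BenderOne20.oddCore_odd)
    rw [hO, le_bot_iff, Subgroup.map_eq_bot_iff_of_injective _ N.subtype_injective] at h1
    exact h1.le
  have hlt : Nat.card N < Nat.card G :=
    lt_of_le_of_ne (Subgroup.card_le_card_group N) fun h => hN (Subgroup.eq_top_of_card_eq N h)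
  obtain ⟨Q, hQ, hR⟩ := hbelow ↥N (H.subgroupOf N) hlt hSE' hfour' hcore'
  -- `G = N H`
  have hcover : ∀ g : G, ∃ n : ↥N, (n : G)⁻¹ * g ∈ H := by
    intro g
    have h1 : orderOf (g * a * g⁻¹) = 2 := (orderOf_conj_eq g a).trans ha
    obtain ⟨n, hn⟩ := isConj_iff.1 (isConj_involutions hSE' (s := ⟨a, hall a ha⟩)
      (t := ⟨g * a * g⁻¹, hall _ h1⟩) ((Subgroup.orderOf_mk a _).trans ha)
      ((Subgroup.orderOf_mk _ _).trans h1))
    refine ⟨n, centralizer_le hSE ha haH ?_⟩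
    rw [mem_centralizer_singleton_iff]
    have hn' : (n : G) * a * (n : G)⁻¹ = g * a * g⁻¹ := congrArg Subtype.val hn
    calc (n : G)⁻¹ * g * a = (n : G)⁻¹ * (g * a * g⁻¹) * g := by group
      _ = a * ((n : G)⁻¹ * g) := by rw [← hn']; group
  refine ⟨Q.map N.subtype, hQ.map _, ⟨?_, ?_, ?_, ?_⟩⟩
  · rintro _ ⟨q, hq, rfl⟩
    exact mem_subgroupOf.1 (hR.le hq)
  · rintro h hh _ ⟨q, hq, rfl⟩
    obtain ⟨k, hk⟩ := hQ ⟨q, hq⟩
    refine ⟨⟨h * q * h⁻¹, (inferInstance : N.Normal).conj_mem q q.2 h⟩,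
      mem_of_pow_two hSE' hQ hR (mem_subgroupOf.2
        (mul_mem (mul_mem hh (mem_subgroupOf.1 (hR.le hq))) (inv_mem hh))) (n := k) ?_, rfl⟩
    apply Subtype.ext
    have h1 : ((q : ↥N) : G) ^ 2 ^ k = 1 := by
      have := congrArg (fun x : ↥Q => ((x : ↥N) : G)) hk
      simpa using this
    simp [conj_pow, h1]
  · rintro g hg _ ⟨q, hq, rfl⟩ hgq
    obtain ⟨n, hn⟩ := hcover g
    have hnH : n ∉ H.subgroupOf N := fun h => hg (by
      have := mul_mem (mem_subgroupOf.1 h) hn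
      simpa using this)
    have h1 : n⁻¹ * (q * n) ∈ H.subgroupOf N := by
      rw [mem_subgroupOf]
      have := mul_mem (mul_mem hn hgq) (inv_mem hn)
      simpa [mul_assoc] using this
    rw [hR.free n hnH q hq h1]
    rfl
  · intro g₁ g₂ hg₁ hg₂
    obtain ⟨n₁, hn₁⟩ := hcover g₁
    obtain ⟨n₂, hn₂⟩ := hcover g₂
    obtain ⟨q, hq, hq'⟩ := hR.trans n₁ n₂
      (fun h => hg₁ (by simpa using mul_mem (mem_subgroupOf.1 h) hn₁))
      (fun h => hg₂ (by simpa using mul_mem (mem_subgroupOf.1 h) hn₂))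
    refine ⟨q, mem_map_of_mem _ hq, ?_⟩
    have := mul_mem (mul_mem (inv_mem hn₂) (mem_subgroupOf.1 hq')) hn₁
    simpa [mul_assoc] using this

/-- Part I reduces to a simple group and a maximal subgroup. -/
theorem propReduction : PropReduction.{u} := by
  intro hMin X _ _ K hSE hfour hcore
  suffices ∀ (n : ℕ) (X : Type u) [Group X] [Finite X] (K : Subgroup X), Nat.card X = n →
      Cfsg.IsStronglyEmbedded K → HasFour K → K.normalCore = ⊥ → Split K from
    this _ X K rfl hSE hfour hcore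
  intro n
  induction n using Nat.strong_induction_on with
  | _ n IH =>
    intro X _ _ K hn hSE hfour hcore
    have hbelow : Below.{u} (Nat.card X) := fun Y _ _ L hY => IH _ (hn ▸ hY) Y L rfl
    by_cases hsimple : IsSimpleGroup X
    swap
    · obtain ⟨g, -, hg⟩ := SetLike.exists_of_lt (lt_top_iff_ne_top.2 hSE.1)
      haveI : Nontrivial X := ⟨⟨g, 1, fun h => hg (h ▸ one_mem _)⟩⟩
      obtain ⟨N, hN, hN1, hNt⟩ : ∃ N : Subgroup X, N.Normal ∧ N ≠ ⊥ ∧ N ≠ ⊤ := by
        by_contra h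
        push Not at h
        exact hsimple ⟨fun N hN => or_iff_not_imp_left.2 (h N hN)⟩
      haveI := hN
      exact split_of_normal hSE hfour hcore hbelow hN1 hNt
    obtain ⟨M, hM, hKM⟩ : ∃ M : Subgroup X, IsCoatom M ∧ K ≤ M := by
      rcases eq_top_or_exists_le_coatom K with h | h
      · exact absurd h hSE.1
      · exact h
    have hSEM := stronglyEmbedded_of_le hSE hKM hM.1
    have hcoreM : M.normalCore = ⊥ :=
      (hsimple.eq_bot_or_eq_top_of_normal _ inferInstance).resolve_right fun h =>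
        hM.1 (top_unique (h ▸ normalCore_le M))
    obtain ⟨a, ha, b, hb, ha2, hb2, hne, hab⟩ := hfour
    have hfourM : HasFour M := ⟨a, hKM ha, b, hKM hb, ha2, hb2, hne, hab⟩
    have hS := hMin X M ⟨hSEM, hfourM, hcoreM, hM, hsimple, hbelow⟩
    rw [eq_of_split hSE hKM hSEM hS]
    exact hS

end Cfsg.Agent.Lib.BenderOne
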