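import Cfsg.Agent.Lib.BenderOne.Interface
import Cfsg.Agent.Lib.BenderOne.TwoPoint
import Cfsg.Agent.Lib.BenderOne.Assemble

/-!
# Bender's theorem, part I, node C1: property (F) gives double transitivity

Let `p` divide the number of involutions fixing a point.  A `p`-subgroup maximal among those fixing
two points fixes exactly two and is a Sylow subgroup of `G`; call such pairs full.  If some pair is
not full, a maximal `p`-subgroup `Q` fixing one has a fixed set of even size, so the involutions of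
its normaliser are congruent modulo an odd subgroup `O`; every larger `p`-group fixes exactly two
points, one of the pairs so obtained is interchanged in the normaliser, and then `O` fixes both its
points and they are all the fixed points of `Q`.  So all pairs are full and Gleason's lemma applies.

Owner: helper32.
-/

set_option autoImplicit false
set_option linter.style.haveILetI false
set_option linter.unusedSectionVars false

namespace Cfsg.Agent.Lib.BenderOne

open MulAction Cfsg.Agent.Lib.Involutions.Basic Cfsg.Agent.Lib.Involutions.StronglyEmbedded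
  Cfsg.Agent.Lib.BenderOne20
open scoped Pointwise

universe u v

variable {G : Type u} {Ω : Type v} [Group G] [Finite G] [MulAction G Ω] [Finite Ω]
variable {p : ℕ} [hp : Fact p.Prime]

/-- A pair of points whose stabiliser contains a Sylow subgroup of the whole group. -/
def Full (p : ℕ) (G : Type u) {Ω : Type v} [Group G] [MulAction G Ω] (x y : Ω) : Prop :=
  p ^ (Nat.card G).factorization p ∣ Nat.card (pairStab G x y)

theorem Full.sylow {x y : Ω} (h : Full p G x y) {P : Subgroup G} (hP : SylowIn p P (pairStab G x y)) :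
    Nat.card P = p ^ (Nat.card G).factorization p := by
  refine Nat.dvd_antisymm ?_ ?_
  · rw [hP.2]
    exact Nat.pow_dvd_pow _ ((hp.out.pow_dvd_iff_le_factorization Nat.card_pos.ne').1
      ((Nat.ordProj_dvd _ p).trans (Subgroup.card_subgroup_dvd_card _)))
  · rw [hP.2]
    exact Nat.pow_dvd_pow _ ((hp.out.pow_dvd_iff_le_factorization Nat.card_pos.ne').1 h)

theorem isPGroup_of_le_sylowIn {R P D : Subgroup G} (hP : SylowIn p P D) (h : R ≤ P) : IsPGroup p R :=
  hP.isPGroup.to_le h

section Main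

variable (hG : OneFix G Ω) (hB : NoBadAct G Ω)
  (hm : ∀ x : Ω, p ∣ Nat.card (invAt G x))
include hG hB hm

/-- The fixed set of a Sylow subgroup of a two-point stabiliser which is a maximal such subgroup
has even size. -/
theorem even_fixed {X : Subgroup G} {x y : Ω} (hxy : x ≠ y) (hX : SylowIn p X (pairStab G x y)) :
    Even (Nat.card (fixed Ω X)) := by
  by_contra hodd
  rw [Nat.not_even_iff_odd] at hodd
  obtain ⟨w, hw, hwN⟩ := exists_swap_normalizer hG hxy hX
  obtain ⟨c, hc, hwc⟩ := exists_fixed_of_odd hw.1 (fun z hz => smul_mem_fixed hwN hz) hodd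
  have hxc : x ≠ c := fun e => hxy ((e ▸ hwc).symm.trans hw.2)
  exact not_commute hG hxy hX hw (hm x) fun z hz =>
    commute_of_noBad hB ⟨hw.1, hwc⟩ hxc hwN hc (fun g hg => (hX.1 hg).1) hz

/-- Every Sylow subgroup fixes exactly two points. -/
theorem sylow_fixed (hne : Nontrivial Ω) {P : Subgroup G}
    (hP : Nat.card P = p ^ (Nat.card G).factorization p) : Nat.card (fixed Ω P) = 2 := by
  obtain ⟨a₀, b₀, hab₀⟩ := exists_pair_ne Ω
  have hd : p ∣ Nat.card (pairStab G a₀ b₀) := by
    obtain ⟨s, hs⟩ := hG.exists_invAt a₀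
    rw [hG.card_pairStab_invAt hab₀ hs]
    exact (hm a₀).mul_right _
  have hpodd : p ≠ 2 := by
    rintro rfl
    exact Nat.not_even_iff_odd.2 (hG.odd_pairStab hab₀) (even_iff_two_dvd.2 hd)
  let T := {X : Subgroup G // IsPGroup p X ∧ ∃ x y : Ω, x ≠ y ∧ x ∈ fixed Ω X ∧ y ∈ fixed Ω X}
  haveI : Nonempty T := ⟨⟨⊥, IsPGroup.of_bot, a₀, b₀, hab₀,
    fun g hg => by rw [Subgroup.mem_bot.1 hg, one_smul],
    fun g hg => by rw [Subgroup.mem_bot.1 hg, one_smul]⟩⟩
  obtain ⟨⟨X, hXp, a, b, hab, ha, hb⟩, hmax⟩ := Finite.exists_max (fun X : T => Nat.card X.1)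
  have hmax' : ∀ R : Subgroup G, IsPGroup p R → ∀ x y : Ω, x ≠ y → R ≤ pairStab G x y →
      Nat.card R ≤ Nat.card X := fun R hR x y hne hle =>
    hmax ⟨R, hR, x, y, hne, fun g hg => (hle hg).1, fun g hg => (hle hg).2⟩
  have hsyl : ∀ x y : Ω, x ≠ y → X ≤ pairStab G x y → SylowIn p X (pairStab G x y) := by
    intro x y hne hle
    obtain ⟨R, hR, hXR⟩ := SylowIn.exists_ge hXp hle
    rwa [Subgroup.eq_of_le_of_card_ge hXR (hmax' R hR.isPGroup x y hne hR.1)]
  have hXab := hsyl a b hab (le_pairStab_of_fixed ha hb)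
  have heven := even_fixed hG hB hm hab hXab
  have htwo : Nat.card (fixed Ω X) = 2 := by
    refine le_antisymm (card_fixed_le_two hG ?_ heven fun x hx y hy hne => ?_) ?_
    · exact (hG.odd_pairStab hab).of_dvd_nat (Subgroup.card_dvd_of_le hXab.1)
    · exact exists_swap_normalizer hG hne (hsyl x y hne (le_pairStab_of_fixed hx hy))
    · rw [Nat.card_coe_set_eq, ← Set.ncard_pair hab]
      exact Set.ncard_le_ncard (Set.insert_subset ha (Set.singleton_subset_iff.2 hb))
  have hfix : fixed Ω X = {a, b} := (Set.eq_of_subset_of_ncard_le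
    (Set.insert_subset ha (Set.singleton_subset_iff.2 hb))
    (by rw [← Nat.card_coe_set_eq, htwo, Set.ncard_pair hab])).symm
  -- it is a Sylow subgroup of `G`
  obtain ⟨S, hS⟩ := hXp.exists_le_sylow
  have hXS : X = S := by
    by_contra hne
    obtain ⟨g, ⟨hgS, hgN⟩, hgX⟩ := SetLike.exists_of_lt
      (lt_inf_normalizer_of_lt S.2 (lt_of_le_of_ne hS hne))
    have hg2 : ∀ z ∈ ({a, b} : Set Ω), (g * g) • z = z := by
      have hmaps : ∀ z ∈ ({a, b} : Set Ω), g • z ∈ ({a, b} : Set Ω) := fun z hz => by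
        rw [← hfix] at hz ⊢; exact smul_mem_fixed hgN hz
      intro z hz
      have h1 := hmaps a (Or.inl rfl)
      have h2 := hmaps b (Or.inr rfl)
      simp only [Set.mem_insert_iff, Set.mem_singleton_iff] at h1 h2 hz
      rcases h1 with h1 | h1 <;> rcases h2 with h2 | h2
      · exact absurd (MulAction.injective g (h1.trans h2.symm)) hab
      · rcases hz with rfl | rfl <;> simp only [mul_smul, h1, h2]
      · rcases hz with rfl | rfl <;> simp only [mul_smul, h1, h2]
      · exact absurd (MulAction.injective g (h1.trans h2.symm)) hab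
    have hgmem : g ∈ pairStab G a b := by
      have hodd : Odd (orderOf g) := by
        obtain ⟨j, hj⟩ := IsPGroup.iff_orderOf.1 S.2 ⟨g, hgS⟩
        rw [Subgroup.orderOf_mk] at hj
        rw [hj]; exact (hp.out.odd_of_ne_two hpodd).pow
      obtain ⟨j, hj⟩ := hodd
      have h1 : g = (g * g) ^ (j + 1) := by
        rw [← pow_two, ← pow_mul, show 2 * (j + 1) = orderOf g + 1 by omega, pow_succ, pow_orderOf_eq_one,
          one_mul]
      rw [h1]
      exact pow_mem (show g * g ∈ pairStab G a b from ⟨hg2 a (Or.inl rfl), hg2 b (Or.inr rfl)⟩) _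
    have hlt : X < X ⊔ Subgroup.zpowers g :=
      lt_of_le_of_ne le_sup_left fun e => hgX (e ▸ Subgroup.mem_sup_right (Subgroup.mem_zpowers g))
    exact hgX (by
      rw [Subgroup.eq_of_le_of_card_ge hlt.le (hmax' _ (S.2.to_le (sup_le hS (Subgroup.zpowers_le.2 hgS)))
        a b hab (sup_le hXab.1 (Subgroup.zpowers_le.2 hgmem)))]
      exact Subgroup.mem_sup_right (Subgroup.mem_zpowers g))
  -- conjugacy
  obtain ⟨P', hP'⟩ : ∃ P' : Sylow p G, (P' : Subgroup G) = P :=
    ⟨Sylow.ofCard P hP, Sylow.coe_ofCard P hP⟩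
  obtain ⟨g, hg⟩ := MulAction.exists_smul_eq G S P'
  have hmem : ∀ x : G, x ∈ P ↔ g⁻¹ * x * g ∈ X := by
    intro x
    rw [← hP', ← hg, Sylow.coe_subgroup_smul, hXS, Subgroup.mem_pointwise_smul_iff_inv_smul_mem]
    simp [MulAut.smul_def, mul_assoc]
  have himg : fixed Ω P = (fun z => g • z) '' fixed Ω X := by
    ext z
    constructor
    · intro hz
      refine ⟨g⁻¹ • z, fun x hx => ?_, smul_inv_smul g z⟩
      have h1 := hz (g * x * g⁻¹) ((hmem _).2 (by simpa [mul_assoc] using hx))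
      have h2 := congrArg (fun w => g⁻¹ • w) h1
      simpa [mul_smul] using h2
    · rintro ⟨w, hw, rfl⟩ x hx
      have h1 := congrArg (fun v => g • v) (hw _ ((hmem x).1 hx))
      simpa [mul_smul] using h1
  rw [himg, Nat.card_coe_set_eq, Set.ncard_image_of_injective _ (MulAction.injective g),
    ← Nat.card_coe_set_eq, htwo]

/-- A `p`-subgroup has at least two fixed points. -/
theorem two_le_fixed (hne : Nontrivial Ω) {R : Subgroup G} (hR : IsPGroup p R) :
    2 ≤ Nat.card (fixed Ω R) := by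
  obtain ⟨S, hS⟩ := hR.exists_le_sylow
  rw [← sylow_fixed hG hB hm hne S.card_eq_multiplicity, Nat.card_coe_set_eq, Nat.card_coe_set_eq]
  exact Set.ncard_le_ncard (fixed_anti hS)

theorem fixed_eq_pair_of_full (hne : Nontrivial Ω) {x y : Ω} (hxy : x ≠ y) (hf : Full p G x y)
    {P : Subgroup G} (hP : SylowIn p P (pairStab G x y)) : fixed Ω P = {x, y} :=
  (Set.eq_of_subset_of_ncard_le
    (Set.insert_subset (show x ∈ fixed Ω P from fun g hg => (hP.1 hg).1)
      (Set.singleton_subset_iff.2 (show y ∈ fixed Ω P from fun g hg => (hP.1 hg).2)))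
    (by rw [← Nat.card_coe_set_eq, sylow_fixed hG hB hm hne (hf.sylow hP), Set.ncard_pair hxy])).symm

omit hB in
/-- A pair fixed by a Sylow subgroup of `G` is full. -/
theorem full_of_le {R : Subgroup G} {x y : Ω} (hle : R ≤ pairStab G x y)
    (hR : Nat.card R = p ^ (Nat.card G).factorization p) : Full p G x y := by
  unfold Full
  rw [← hR]
  exact Subgroup.card_dvd_of_le hle

/-- All pairs are full. -/
theorem full (hne : Nontrivial Ω) (hpodd : p ≠ 2) {a₀ e₀ : Ω} (hne₀ : a₀ ≠ e₀) :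
    Full p G a₀ e₀ := by
  by_contra hnf
  let T := {X : Subgroup G // IsPGroup p X ∧ ∃ x y : Ω, x ≠ y ∧ ¬ Full p G x y ∧ x ∈ fixed Ω X ∧ y ∈ fixed Ω X}
  haveI : Nonempty T := ⟨⟨⊥, IsPGroup.of_bot, a₀, e₀, hne₀, hnf,
    fun g hg => by rw [Subgroup.mem_bot.1 hg, one_smul],
    fun g hg => by rw [Subgroup.mem_bot.1 hg, one_smul]⟩⟩
  obtain ⟨⟨Q, hQp, a, e, hae, hnfae, ha, he⟩, hmax⟩ := Finite.exists_max (fun X : T => Nat.card X.1)
  have hmax' : ∀ R : Subgroup G, IsPGroup p R → ∀ x y : Ω, x ≠ y → R ≤ pairStab G x y →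
      Nat.card Q < Nat.card R → Full p G x y := fun R hR x y hxy hle hlt => by
    by_contra hn
    exact absurd (hmax ⟨R, hR, x, y, hxy, hn, fun g hg => (hle hg).1, fun g hg => (hle hg).2⟩)
      (not_le.2 hlt)
  have hsyl : ∀ x y : Ω, x ≠ y → ¬ Full p G x y → Q ≤ pairStab G x y → SylowIn p Q (pairStab G x y) := by
    intro x y hxy hn hle
    obtain ⟨R, hR, hQR⟩ := SylowIn.exists_ge hQp hle
    rwa [Subgroup.eq_of_le_of_card_ge hQR (not_lt.1 fun hlt => hn (hmax' R hR.isPGroup x y hxy hR.1 hlt))]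
  have hQae := hsyl a e hae hnfae (le_pairStab_of_fixed ha he)
  have heven := even_fixed hG hB hm hae hQae
  have hQodd : Odd (Nat.card Q) := (hG.odd_pairStab hae).of_dvd_nat (Subgroup.card_dvd_of_le hQae.1)
  -- no involution of the normaliser fixes a fixed point
  have hno : ∀ w ∈ Subgroup.normalizer (Q : Set G), ∀ c ∈ fixed Ω Q, orderOf w = 2 → w • c ≠ c := by
    intro w hwN c hc hw2 hwc
    have hS : ∀ y ∈ fixed Ω Q \ {c}, w • y ∈ fixed Ω Q \ {c} := fun y hy =>
      ⟨smul_mem_fixed hwN hy.1, fun e => hy.2 (by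
        have e' : w • y = c := e
        have := congrArg (fun z => w • z) e'
        simp only [← mul_smul, invol_mul_self hw2, one_smul, hwc] at this
        exact this)⟩
    obtain ⟨d, hd, hdw⟩ := exists_fixed_of_odd hw2 hS (by
      rw [Nat.card_coe_set_eq, Set.ncard_sdiff_singleton_of_mem hc, ← Nat.card_coe_set_eq]
      obtain ⟨k, hk⟩ := heven
      have : 0 < Nat.card (fixed Ω Q) := by
        haveI : Nonempty (fixed Ω Q) := ⟨⟨a, ha⟩⟩
        exact Nat.card_pos
      exact ⟨k - 1, by omega⟩)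
    exact hd.2 (hG.eq_of_fix hw2 hdw hwc)
  -- larger `p`-groups fix exactly two points
  have hbig : ∀ R : Subgroup G, IsPGroup p R → Q < R → Nat.card (fixed Ω R) = 2 := by
    by_contra hex
    push Not at hex
    obtain ⟨R₀, hR₀p, hR₀Q, hR₀⟩ := hex
    let U := {R : Subgroup G // IsPGroup p R ∧ Q < R ∧ Nat.card (fixed Ω R) ≠ 2}
    haveI : Nonempty U := ⟨⟨R₀, hR₀p, hR₀Q, hR₀⟩⟩
    obtain ⟨⟨R, hRp, hQR, hR3⟩, hRmax⟩ := Finite.exists_max (fun X : U => Nat.card X.1)
    have hlt : Nat.card Q < Nat.card R := by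
      by_contra hge
      exact hQR.ne (Subgroup.eq_of_le_of_card_ge hQR.le (not_lt.1 hge))
    have hfull : ∀ x ∈ fixed Ω R, ∀ y ∈ fixed Ω R, x ≠ y → Full p G x y := fun x hx y hy hxy =>
      hmax' R hRp x y hxy (le_pairStab_of_fixed hx hy) hlt
    -- each pair of fixed points is the fixed set of a larger group
    have hgrp : ∀ x ∈ fixed Ω R, ∀ y ∈ fixed Ω R, x ≠ y → ∃ R' : Subgroup G, IsPGroup p R' ∧
        R' ≤ Subgroup.normalizer (R : Set G) ∧ fixed Ω R' = {x, y} := by
      intro x hx y hy hxy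
      obtain ⟨P, hP, hRP⟩ := SylowIn.exists_ge hRp (le_pairStab_of_fixed hx hy)
      have hPfix := fixed_eq_pair_of_full hG hB hm hne hxy (hfull x hx y hy hxy) hP
      have hne' : R ≠ P := fun e => hR3 (by rw [e, hPfix, Nat.card_coe_set_eq, Set.ncard_pair hxy])
      have hlt' := lt_inf_normalizer_of_lt hP.isPGroup (lt_of_le_of_ne hRP hne')
      refine ⟨_, hP.isPGroup.to_le inf_le_left, inf_le_right, (Set.eq_of_subset_of_ncard_le ?_ ?_).symm⟩
      · exact Set.insert_subset (fun g hg => (hP.1 hg.1).1) (Set.singleton_subset_iff.2 fun g hg => (hP.1 hg.1).2)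
      · rw [Set.ncard_pair hxy, ← Nat.card_coe_set_eq]
        by_contra hcon
        have hcard : Nat.card R < Nat.card ↥(P ⊓ Subgroup.normalizer (R : Set G)) := by
          by_contra hge
          exact hlt'.ne (Subgroup.eq_of_le_of_card_ge hlt'.le (not_lt.1 hge))
        exact absurd (hRmax ⟨_, hP.isPGroup.to_le inf_le_left, hQR.trans hlt', fun e' => hcon e'.le⟩)
          (not_le.2 hcard)
    -- double transitivity of the normaliser
    have htr : ∀ c ∈ fixed Ω R, ∀ x ∈ fixed Ω R, ∀ y ∈ fixed Ω R, x ≠ c → y ≠ c →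
        ∃ g ∈ Subgroup.normalizer (R : Set G) ⊓ stabilizer G c, g • x = y := by
      intro c hc x hx y hy hxc hyc
      refine transitive_of_unique_fixed (p := p) (S := fixed Ω R \ {c}) ?_ ?_ ⟨hx, hxc⟩ ⟨hy, hyc⟩
      · rintro g ⟨hgN, hgc⟩ z ⟨hz, hzc⟩
        exact ⟨smul_mem_fixed hgN hz, fun e' => hzc (MulAction.injective g ((e' : g • z = c).trans hgc.symm))⟩
      · rintro z ⟨hz, hzc⟩
        obtain ⟨R', hR'p, hR'N, hR'fix⟩ := hgrp c hc z hz (Ne.symm hzc)
        have hcR : c ∈ fixed Ω R' := by rw [hR'fix]; exact Or.inl rfl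
        refine ⟨R', le_inf hR'N fun g hg => hcR g hg, hR'p, by rw [hR'fix]; exact Or.inr rfl, fun w hw hwR => ?_⟩
        rw [hR'fix] at hwR
        exact hwR.resolve_left hw.2
    have hswap : ∀ x ∈ fixed Ω R, ∀ y ∈ fixed Ω R, x ≠ y →
        ∃ w ∈ swapSet G x y, w ∈ Subgroup.normalizer (R : Set G) := by
      intro x hx y hy hxy
      obtain ⟨z, hz, hzx, hzy⟩ : ∃ z ∈ fixed Ω R, z ≠ x ∧ z ≠ y := by
        by_contra hno'
        push Not at hno'
        apply hR3
        rw [Nat.card_coe_set_eq]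
        have hsub : fixed Ω R = {x, y} := Set.eq_of_subset_of_subset (fun w hw => by
            by_cases h1 : w = x
            · exact Or.inl h1
            · exact Or.inr (hno' w hw h1))
          (Set.insert_subset hx (Set.singleton_subset_iff.2 hy))
        rw [hsub, Set.ncard_pair hxy]
      obtain ⟨g, hg, hgx⟩ := htr z hz x hx y hy hzx.symm hzy.symm
      have hgy : g • y ∈ fixed Ω R := smul_mem_fixed hg.1 hy
      have hgy' : g • y ≠ y := fun e' => hxy (MulAction.injective g (hgx.trans e'.symm))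
      obtain ⟨h, hh, hhg⟩ := htr y hy (g • y) hgy x hx hgy' hxy
      refine exists_swap_of_exchange hG hxy (mul_mem hh.1 hg.1) ?_ ?_
      · rw [mul_smul, hgx]; exact hh.2
      · rw [mul_smul, hhg]
    by_cases hRodd : Odd (Nat.card (fixed Ω R))
    · have h2 := two_le_fixed hG hB hm hne hRp
      rw [Nat.card_coe_set_eq] at h2
      obtain ⟨x, hx, y, hy, hxy⟩ := (Set.one_lt_ncard_iff_nontrivial).1 h2
      obtain ⟨w, hw, hwN⟩ := hswap x hx y hy hxy
      obtain ⟨c, hc, hwc⟩ := exists_fixed_of_odd hw.1 (fun z hz => smul_mem_fixed hwN hz) hRodd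
      have hxc : x ≠ c := fun e' => hxy ((e' ▸ hwc).symm.trans hw.2)
      have hcomm : ∀ z ∈ R, w * z = z * w := fun z hz => commute_of_noBad hB ⟨hw.1, hwc⟩ hxc hwN hc hx hz
      refine hno w ?_ c (fixed_anti hQR.le hc) hw.1 hwc
      rw [Subgroup.mem_normalizer_iff]
      intro g
      constructor
      · intro hg
        rw [hcomm g (hQR.le hg), mul_inv_cancel_right]; exact hg
      · intro hg
        have h1 := hcomm _ (hQR.le hg)
        have h2 : g = w * g * w⁻¹ := by
          calc g = w⁻¹ * (w * g * w⁻¹ * w) := by group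
            _ = w⁻¹ * (w * (w * g * w⁻¹)) := by rw [← h1]
            _ = w * g * w⁻¹ := by group
        rw [h2]; exact hg
    · rw [Nat.not_odd_iff_even] at hRodd
      obtain ⟨k, hk⟩ := hRp.exists_card_eq
      have hle := card_fixed_le_two hG (by rw [hk]; exact (hp.out.odd_of_ne_two hpodd).pow) hRodd hswap
      exact hR3 (le_antisymm hle (two_le_fixed hG hB hm hne hRp))
  obtain ⟨O, hON, hOodd, hOconj, hprod⟩ := exists_odd_products hG hQodd hno
  -- full pairs in the fixed set come from larger groups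
  have hgrp : ∀ x ∈ fixed Ω Q, ∀ y ∈ fixed Ω Q, x ≠ y → Full p G x y → ∃ R : Subgroup G, IsPGroup p R ∧
      Q < R ∧ R ≤ Subgroup.normalizer (Q : Set G) ∧ fixed Ω R = {x, y} := by
    intro x hx y hy hxy hf
    obtain ⟨P, hP, hQP⟩ := SylowIn.exists_ge hQp (le_pairStab_of_fixed hx hy)
    have hne' : Q ≠ P := fun e' => by
      have h := fixed_eq_pair_of_full hG hB hm hne hxy hf hP
      rw [← e'] at h
      rw [h] at ha he
      rcases ha with ha | ha <;> rcases he with he | he
      · exact hae (ha.trans he.symm)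
      · exact hnfae (ha ▸ he ▸ hf)
      · refine hnfae ?_
        rw [Set.mem_singleton_iff.1 ha, he]
        unfold Full pairStab
        rw [inf_comm]; exact hf
      · exact hae (ha.trans he.symm)
    have hlt' := lt_inf_normalizer_of_lt hP.isPGroup (lt_of_le_of_ne hQP hne')
    have hp' := hP.isPGroup.to_le (inf_le_left : P ⊓ Subgroup.normalizer (Q : Set G) ≤ P)
    refine ⟨_, hp', hlt', inf_le_right, (Set.eq_of_subset_of_ncard_le ?_ ?_).symm⟩
    · exact Set.insert_subset (fun g hg => (hP.1 hg.1).1) (Set.singleton_subset_iff.2 fun g hg => (hP.1 hg.1).2)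
    · rw [Set.ncard_pair hxy, ← Nat.card_coe_set_eq, hbig _ hp' hlt']
  -- a full pair interchanged in the normaliser
  obtain ⟨x, y, hxy, hxQ, hyQ, hf, z, hz, hzN⟩ : ∃ x y : Ω, x ≠ y ∧ x ∈ fixed Ω Q ∧ y ∈ fixed Ω Q ∧
      Full p G x y ∧ ∃ z ∈ swapSet G x y, z ∈ Subgroup.normalizer (Q : Set G) := by
    obtain ⟨u, hu, huN⟩ := exists_swap_normalizer hG hae hQae
    obtain ⟨S, hS⟩ := hQp.exists_le_sylow
    have hQS : Q ≠ S := fun e' => hnfae (full_of_le hG hm (e' ▸ hQae.1) S.card_eq_multiplicity)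
    have hlt' := lt_inf_normalizer_of_lt S.2 (lt_of_le_of_ne hS hQS)
    set R₁ := (S : Subgroup G) ⊓ Subgroup.normalizer (Q : Set G)
    have hR₁ : IsPGroup p R₁ := S.2.to_le inf_le_left
    have hR₁fix := hbig R₁ hR₁ hlt'
    -- `M = O R₁` is normalised by `u`
    set M := O ⊔ R₁
    have hR₁O : R₁ ≤ Subgroup.normalizer (O : Set G) := fun g hg => by
      rw [Subgroup.mem_normalizer_iff]
      refine fun o => ⟨fun ho => hOconj g hg.2 o ho, fun ho => ?_⟩
      have h := hOconj g⁻¹ (inv_mem hg.2) _ ho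
      simpa [mul_assoc] using h
    have hMmul : (M : Set G) = (O : Set G) * (R₁ : Set G) :=
      Subgroup.coe_mul_of_right_le_normalizer_left O R₁ hR₁O
    have hR₁odd : Odd (Nat.card R₁) := by
      obtain ⟨k, hk⟩ := hR₁.exists_card_eq
      rw [hk]; exact (hp.out.odd_of_ne_two hpodd).pow
    have hModd : Odd (Nat.card M) := by
      rw [odd_card_iff_no_invol]
      intro m hm hm2
      rw [← SetLike.mem_coe, hMmul, Set.mem_mul] at hm
      obtain ⟨o, ho, r, hr, rfl⟩ := hm
      have hr2 : r * r ∈ O := by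
        have e : r * r = (o * (r * o * r⁻¹))⁻¹ * ((o * r) * (o * r)) := by group
        rw [e, invol_mul_self hm2, mul_one]
        exact inv_mem (mul_mem ho (hOconj r hr.2 o ho))
      have hrO : r ∈ O := by
        obtain ⟨j, hj⟩ := hR₁odd.of_dvd_nat (R₁.orderOf_dvd_natCard hr)
        have h1 : r = (r * r) ^ (j + 1) := by
          rw [← pow_two, ← pow_mul, show 2 * (j + 1) = orderOf r + 1 by omega, pow_succ, pow_orderOf_eq_one,
            one_mul]
        rw [h1]; exact pow_mem hr2 _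
      exact (odd_card_iff_no_invol O).1 hOodd _ (mul_mem ho hrO) hm2
    have hMN : M ≤ Subgroup.normalizer (Q : Set G) := sup_le hON inf_le_right
    have huM : M.map (MulAut.conj u).toMonoidHom ≤ M := by
      rw [Subgroup.map_sup, sup_le_iff]
      refine ⟨?_, ?_⟩
      · rintro _ ⟨o, ho, rfl⟩
        exact Subgroup.mem_sup_left (hOconj u huN o ho)
      · rintro _ ⟨r, hr, rfl⟩
        have h1 : r⁻¹ * u * r * u⁻¹ ∈ O := by
          rw [invol_inv hu.1]
          exact hprod _ (mul_mem (mul_mem (inv_mem hr.2) huN) hr.2) _ huN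
            (by simpa using (orderOf_conj_eq r⁻¹ u).trans hu.1) hu.1
        have h2 : u * r * u⁻¹ = r * (r⁻¹ * u * r * u⁻¹) := by group
        show u * r * u⁻¹ ∈ M
        rw [h2]
        exact mul_mem (Subgroup.mem_sup_right hr) (Subgroup.mem_sup_left h1)
    have hMeq : M.map (MulAut.conj u).toMonoidHom = M := Subgroup.eq_of_le_of_card_ge huM
      (Subgroup.card_map_of_injective (MulAut.conj u).injective).ge
    obtain ⟨R, hR, hR₁R⟩ := SylowIn.exists_ge hR₁ (show R₁ ≤ M from le_sup_right)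
    obtain ⟨d, hd, hdR⟩ := (hMeq ▸ hR.map_conj u).conj_eq hR
    have hg : d * u ∈ Subgroup.normalizer (R : Set G) := by
      refine Subgroup.mem_normalizer_iff_map_conj_eq.2 ?_
      conv_rhs => rw [← hdR, Subgroup.map_map]
      congr 1
      ext w
      simp [mul_assoc]
    have hg2 : d * u * (d * u) ∈ M := by
      have : d * u * (d * u) = d * (u * d * u⁻¹) := by rw [invol_inv hu.1]; group
      rw [this]
      exact mul_mem hd (huM ⟨d, hd, rfl⟩)
    have hgM : d * u ∉ M := fun h => (odd_card_iff_no_invol M).1 hModd u (by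
      have := mul_mem (inv_mem hd) h
      rwa [← mul_assoc, inv_mul_cancel, one_mul] at this) hu.1
    obtain ⟨k, -, hz2⟩ := exists_invol_pow hModd hgM hg2
    set z := (d * u) ^ k
    have hzR : z ∈ Subgroup.normalizer (R : Set G) := pow_mem hg k
    have hzQ : z ∈ Subgroup.normalizer (Q : Set G) := pow_mem (mul_mem (hMN hd) huN) k
    have hQR : Q < R := hlt'.trans_le hR₁R
    have hfix := hbig R hR.isPGroup hQR
    rw [Nat.card_coe_set_eq, Set.ncard_eq_two] at hfix
    obtain ⟨x, y, hxy, hxyfix⟩ := hfix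
    have hxR : x ∈ fixed Ω R := by rw [hxyfix]; exact Or.inl rfl
    have hyR : y ∈ fixed Ω R := by rw [hxyfix]; exact Or.inr rfl
    have hxQ := fixed_anti hQR.le hxR
    have hyQ := fixed_anti hQR.le hyR
    have hzx : z • x = y := by
      have h := smul_mem_fixed hzR hxR
      rw [hxyfix] at h
      exact h.resolve_left (hno z hzQ x hxQ hz2)
    refine ⟨x, y, hxy, hxQ, hyQ, hmax' R hR.isPGroup x y hxy (le_pairStab_of_fixed hxR hyR) ?_,
      z, ⟨hz2, hzx⟩, hzQ⟩
    by_contra hge
    exact hQR.ne (Subgroup.eq_of_le_of_card_ge hQR.le (not_lt.1 hge))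
  -- every other fixed point is in the `O`-orbit of `y`
  have horb : ∀ w ∈ fixed Ω Q, w ≠ x → ∃ o ∈ O, o • y = w := by
    intro w hw hwx
    by_cases hfw : Full p G x w
    · obtain ⟨g, ⟨hgN, hgx⟩, hgy⟩ := transitive_of_unique_fixed (p := p)
        (A := Subgroup.normalizer (Q : Set G) ⊓ stabilizer G x)
        (S := {v | v ∈ fixed Ω Q ∧ v ≠ x ∧ Full p G x v})
        (fun g hg v hv => ⟨smul_mem_fixed hg.1 hv.1,
          fun e' => hv.2.1 (MulAction.injective g ((e' : g • v = x).trans hg.2.symm)), by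
            have hmap : (pairStab G x v).map (MulAut.conj g).toMonoidHom ≤ pairStab G x (g • v) := by
              rintro _ ⟨d, hd, rfl⟩
              refine ⟨?_, ?_⟩
              · show (g * d * g⁻¹) • x = x
                rw [mul_smul, mul_smul, inv_smul_eq_iff.2 hg.2.symm, (hd.1 : d • x = x)]
                exact hg.2
              · show (g * d * g⁻¹) • (g • v) = g • v
                rw [mul_smul, mul_smul, inv_smul_smul, (hd.2 : d • v = v)]
            refine hv.2.2.trans ?_
            rw [← Subgroup.card_map_of_injective (K := pairStab G x v)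
              (f := (MulAut.conj g).toMonoidHom) (MulAut.conj g).injective]
            exact Subgroup.card_dvd_of_le hmap⟩)
        (fun v hv => by
          obtain ⟨R, hRp, -, hRN, hRfix⟩ := hgrp x hxQ v hv.1 hv.2.1.symm hv.2.2
          have hxR : x ∈ fixed Ω R := by rw [hRfix]; exact Or.inl rfl
          refine ⟨R, le_inf hRN fun g hg => hxR g hg, hRp, by rw [hRfix]; exact Or.inr rfl,
            fun v' hv' hv'R => ?_⟩
          rw [hRfix] at hv'R
          exact hv'R.resolve_left hv'.2.1)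
        (x := y) (y := w) ⟨hyQ, hxy.symm, hf⟩ ⟨hw, hwx, hfw⟩
      refine ⟨g * z * g⁻¹ * z, hprod _ (mul_mem (mul_mem hgN hzN) (inv_mem hgN)) _ hzN
        ((orderOf_conj_eq g z).trans hz.1) hz.1, ?_⟩
      rw [mul_smul, smul_swap hz, mul_smul, mul_smul, inv_smul_eq_iff.2 hgx.symm, hz.2, hgy]
    · obtain ⟨v, hv, hvN⟩ := exists_swap_normalizer hG hwx.symm
        (hsyl x w hwx.symm hfw (le_pairStab_of_fixed hxQ hw))
      exact ⟨v * z, hprod _ hvN _ hzN hv.1 hz.1, by rw [mul_smul, smul_swap hz, hv.2]⟩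
  -- so `O` fixes `x` and `y`
  have hOx : ∀ o ∈ O, o • x = x := by
    intro o ho
    by_contra hne'
    obtain ⟨o', ho', ho'y⟩ := horb (o • x) (smul_mem_fixed (hON ho) hxQ) hne'
    have hy' : y = (o'⁻¹ * o) • x := by rw [mul_smul, ← ho'y, inv_smul_smul]
    have hinv : ∀ v ∈ orbit O x, z • v ∈ orbit O x := by
      rintro _ ⟨q, rfl⟩
      refine ⟨⟨z * q * z⁻¹ * (o'⁻¹ * o), mul_mem (hOconj z hzN q q.2) (mul_mem (inv_mem ho') ho)⟩, ?_⟩
      show (z * q * z⁻¹ * (o'⁻¹ * o)) • x = z • (q : G) • x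
      rw [mul_smul, ← hy', invol_inv hz.1, mul_smul, mul_smul, smul_swap hz]
    have hodd : Odd (Nat.card (orbit O x)) := hOodd.of_dvd_nat
      ⟨_, by rw [← Nat.card_prod]; exact (Nat.card_congr (orbitProdStabilizerEquivGroup O x)).symm⟩
    obtain ⟨c, ⟨q, rfl⟩, hc⟩ := exists_fixed_of_odd hz.1 hinv hodd
    exact hno z hzN _ (smul_mem_fixed (hON q.2) hxQ) hz.1 hc
  have hsub : fixed Ω Q ⊆ {x, y} := by
    intro w hw
    by_cases hwx : w = x
    · exact Or.inl hwx
    · obtain ⟨o, ho, rfl⟩ := horb w hw hwx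
      refine Or.inr ?_
      have h := hOx _ (hOconj z hzN o ho)
      rw [invol_inv hz.1, mul_smul, mul_smul, hz.2] at h
      have h' := congrArg (fun v => z • v) h
      simp only [← mul_smul, ← mul_assoc, invol_mul_self hz.1, one_mul, hz.2] at h'
      exact h'
  rcases hsub ha with ha' | ha' <;> rcases hsub he with he' | he'
  · exact hae (ha'.trans he'.symm)
  · exact hnfae (ha' ▸ he' ▸ hf)
  · refine hnfae ?_
    rw [Set.mem_singleton_iff.1 ha', he']
    unfold Full pairStab
    rw [inf_comm]; exact hf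
  · exact hae (ha'.trans he'.symm)

/-- The stabiliser of a point is transitive on the other points. -/
theorem transitive (hne : Nontrivial Ω) (hpodd : p ≠ 2) {a x y : Ω} (hx : x ≠ a) (hy : y ≠ a) :
    ∃ g ∈ stabilizer G a, g • x = y := by
  refine transitive_of_unique_fixed (p := p) (S := {v | v ≠ a})
    (fun g hg v hv e => hv (MulAction.injective g ((e : g • v = a).trans (show g • a = a from hg).symm))) (fun v hv => ?_) hx hy
  obtain ⟨P, hP, -⟩ := SylowIn.exists_ge (p := p) (D := pairStab G a v) (U := ⊥) IsPGroup.of_bot bot_le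
  have hfix := fixed_eq_pair_of_full hG hB hm hne hv.symm (full hG hB hm hne hpodd hv.symm) hP
  refine ⟨P, fun g hg => (hP.1 hg).1, hP.isPGroup, fun g hg => (hP.1 hg).2, fun w hw hwP => ?_⟩
  rw [hfix] at hwP
  exact hwP.resolve_left hw

end Main

/-- Property (F) for the action on the cosets. -/
theorem noBadAct {H : Subgroup G} (hB : NoBad H) : NoBadAct G (G ⧸ H) := by
  intro v x c d hv hd hxc hxd hinv
  obtain ⟨g₀, rfl⟩ := QuotientGroup.mk_surjective c
  obtain ⟨g₁, rfl⟩ := QuotientGroup.mk_surjective d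
  have hvH : g₀⁻¹ * (v * g₀) ∈ H := by
    have h := hv.2
    rwa [smul_coset_eq_iff, mul_assoc] at h
  have hxH : g₀⁻¹ * (x * g₀) ∈ H := by rwa [smul_coset_eq_iff, mul_assoc] at hxc
  have hxg : g₁⁻¹ * (x * g₁) ∈ H := by rwa [smul_coset_eq_iff, mul_assoc] at hxd
  have hord : orderOf (g₀⁻¹ * (v * g₀)) = 2 := by
    rw [← hv.1, ← mul_assoc]
    simpa using orderOf_conj_eq g₀⁻¹ v
  have h := hB (g₀⁻¹ * (v * g₀)) (g₀⁻¹ * (x * g₀)) (g₀⁻¹ * g₁) hord hvH hxH
    (fun hg => hd (QuotientGroup.eq.2 (by simpa using inv_mem hg)))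
    (by simpa [mul_assoc] using hxg)
    (by
      calc g₀⁻¹ * (v * g₀) * (g₀⁻¹ * (x * g₀)) * (g₀⁻¹ * (v * g₀))⁻¹
          = g₀⁻¹ * (v * x * v⁻¹) * g₀ := by group
        _ = _ := by rw [hinv]; group)
  have h' := congrArg (fun w => g₀ * w * g₀⁻¹) h
  simpa [mul_assoc] using h'

/-- Node C1. -/
theorem propTwoTrans : PropTwoTrans.{u} := by
  intro X _ _ K hmin hB g₁ g₂ hg₁ hg₂
  have hG := oneFix_of_stronglyEmbedded hmin.se
  obtain ⟨a, ha, b, hb, hab, -⟩ := hasFour_iff.1 hmin.four
  set o : X ⧸ K := ((1 : X) : X ⧸ K)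
  have h1 : 1 < Nat.card (invAt X o) := by
    rw [Finite.one_lt_card_iff_nontrivial]
    exact ⟨⟨⟨a, ha⟩, ⟨b, hb⟩, fun e => hab (congrArg Subtype.val e)⟩⟩
  obtain ⟨p, hp, hpd⟩ := Nat.exists_prime_and_dvd h1.ne'
  haveI : Fact p.Prime := ⟨hp⟩
  have hm : ∀ x : X ⧸ K, p ∣ Nat.card (invAt X x) := fun x => hG.card_invAt x o ▸ hpd
  have hpodd : p ≠ 2 := by
    obtain ⟨x, y, hxy⟩ := hG.nontrivial
    obtain ⟨s, hs⟩ := hG.exists_invAt x
    rintro rfl
    refine Nat.not_even_iff_odd.2 (hG.odd_pairStab hxy) (even_iff_two_dvd.2 ?_)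
    rw [hG.card_pairStab_invAt hxy hs]
    exact (hm x).mul_right _
  obtain ⟨g, hg, hgx⟩ := transitive hG (noBadAct hB) hm hG.nontrivial hpodd
    (a := o) (x := (g₁ : X ⧸ K)) (y := (g₂ : X ⧸ K)) (ne_one_iff.2 hg₁) (ne_one_iff.2 hg₂)
  have hgK : g ∈ K := by
    have := hg
    rwa [stabilizer_quotient] at this
  refine ⟨g, hgK, ?_⟩
  have h1 : ((g * g₁ : X) : X ⧸ K) = (g₂ : X ⧸ K) := hgx
  rw [QuotientGroup.eq] at h1
  have h' := inv_mem h1
  simpa [mul_assoc] using h'

end Cfsg.Agent.Lib.BenderOne
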