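import Cfsg.Agent.Lib.BenderOne20.RankOne
import Cfsg.Agent.Lib.BenderSuzuki.Interface

/-!
# Bender's strongly embedded theorem, part I: interface

`G` has a strongly embedded subgroup `H` with a four group; the target is `Split`: some normal
`2`-subgroup of `H` acts regularly on the cosets other than `H`.  See `notes/bender_plan.md` and
`notes/bender_nodeB_helper36.md`; part II enters as `BenderSuzuki.PropMain`.
-/

set_option autoImplicit false

namespace Cfsg.Agent.Lib.BenderOne

open Subgroup
open Cfsg.Agent.Lib.BenderOne20 (HasFour)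

universe u

variable {G : Type u} [Group G]

/-- `Q` is a normal subgroup of `H` acting regularly on the cosets other than `H`. -/
structure Regular (H Q : Subgroup G) : Prop where
  le : Q ≤ H
  conj_mem : ∀ h ∈ H, ∀ q ∈ Q, h * q * h⁻¹ ∈ Q
  free : ∀ g : G, g ∉ H → ∀ q ∈ Q, g⁻¹ * (q * g) ∈ H → q = 1
  trans : ∀ g₁ g₂ : G, g₁ ∉ H → g₂ ∉ H → ∃ q ∈ Q, g₂⁻¹ * (q * g₁) ∈ H

/-- The target of the induction. -/
def Split (H : Subgroup G) : Prop :=
  ∃ Q : Subgroup G, IsPGroup 2 Q ∧ Regular H Q

/-- Double transitivity on the cosets, in the form of S1220. -/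
def TwoTrans (H : Subgroup G) : Prop :=
  ∀ g₁ g₂ : G, g₁ ∉ H → g₂ ∉ H → ∃ h ∈ H, g₂⁻¹ * (h * g₁) ∈ H

/-- Property (F): no involution of `H` inverts a non-trivial element of `H` fixing a second
coset. -/
def NoBad (H : Subgroup G) : Prop :=
  ∀ (v j g : G), orderOf v = 2 → v ∈ H → j ∈ H → g ∉ H → g⁻¹ * (j * g) ∈ H →
    v * j * v⁻¹ = j⁻¹ → j = 1

/-- `M` has two involutions with different fixed cosets. -/
def Many (H M : Subgroup G) : Prop :=
  ∃ x ∈ M, ∃ y ∈ M, orderOf x = 2 ∧ orderOf y = 2 ∧
    ∀ g : G, g⁻¹ * (x * g) ∈ H → g⁻¹ * (y * g) ∉ H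

/-- The induction hypothesis. -/
def Below.{w} (n : ℕ) : Prop :=
  ∀ (X : Type w) [Group X] [Finite X] (K : Subgroup X), Nat.card X < n →
    Cfsg.IsStronglyEmbedded K → HasFour K → K.normalCore = ⊥ → Split K

/-- A minimal counterexample, reduced: `G` simple and `H` maximal. -/
structure Min (G : Type u) [Group G] (H : Subgroup G) : Prop where
  se : Cfsg.IsStronglyEmbedded H
  four : HasFour H
  core : H.normalCore = ⊥
  maximal : IsCoatom H
  simple : IsSimpleGroup G
  below : Below.{u} (Nat.card G)

/-- Node A: in a proper subgroup with a four group and two fixed cosets the involutions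
centralise the core. -/
def CoreCentral (H : Subgroup G) : Prop :=
  ∀ M : Subgroup G, M ≠ ⊤ → HasFour M → Many H M → ∀ x ∈ M, orderOf x = 2 →
    ∀ y ∈ (Cfsg.oddCore ↥M).map M.subtype, x * y = y * x

/-! ## The nodes -/

/-- Reduction to a simple group and a maximal subgroup. -/
def PropReduction.{w} : Prop :=
  (∀ (X : Type w) [Group X] [Finite X] (K : Subgroup X), Min X K → Split K) →
    ∀ (X : Type w) [Group X] [Finite X] (K : Subgroup X),
      Cfsg.IsStronglyEmbedded K → HasFour K → K.normalCore = ⊥ → Split K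

/-- Node A. -/
def PropCoreCentral.{w} : Prop :=
  BenderSuzuki.PropMain.{w, w} →
    ∀ (X : Type w) [Group X] [Finite X] (K : Subgroup X), Min X K → CoreCentral K

/-- Node B: property (F). -/
def PropNoBad.{w} : Prop :=
  BenderSuzuki.PropMain.{w, w} →
    ∀ (X : Type w) [Group X] [Finite X] (K : Subgroup X), Min X K → CoreCentral K → NoBad K

/-- Node C1: double transitivity. -/
def PropTwoTrans.{w} : Prop :=
  ∀ (X : Type w) [Group X] [Finite X] (K : Subgroup X), Min X K → NoBad K → TwoTrans K

/-- Node C2: a regular normal subgroup of `H`.  It need not be shown to be a `2`-group: part II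
does that. -/
def PropRegular.{w} : Prop :=
  BenderSuzuki.PropMain.{w, w} →
    ∀ (X : Type w) [Group X] [Finite X] (K : Subgroup X), Min X K → CoreCentral K → NoBad K →
      TwoTrans K → ∃ Q : Subgroup X, Regular K Q

/-- The theorem of part I. -/
def PropSplit.{w} : Prop :=
  ∀ (X : Type w) [Group X] [Finite X] (K : Subgroup X),
    Cfsg.IsStronglyEmbedded K → HasFour K → K.normalCore = ⊥ → Split K

end Cfsg.Agent.Lib.BenderOne
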