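import Cfsg.Agent.Lib.BenderOne.PartOne
import Cfsg.Agent.Lib.BenderOne.Reduction
import Cfsg.Agent.Lib.BenderOne.NoBad
import Cfsg.Agent.Lib.BenderOne.TwoTrans
import Cfsg.Agent.Lib.BenderOne.NodeA.Final
import Cfsg.Agent.Lib.BenderOne8.Single.Main
import Cfsg.Agent.Lib.BenderOne8.Single.Top
import Cfsg.Agent.Lib.BenderOne83.C2.Shape
import Cfsg.Agent.Lib.BenderOne67.C2.CommEnd
import Cfsg.Agent.Lib.BenderOne43.EndA
import Cfsg.Agent.Lib.BenderOne9.C2.End
import Cfsg.Agent.Lib.BenderSuzuki.Main

/-!
# Bender's strongly embedded theorem

`propSplitFinal`: a core-free strongly embedded subgroup containing a four group has a normal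
`2`-subgroup regular on the other cosets.  `propPartOneFinal` is the form used by the consumers.
-/

set_option autoImplicit false

namespace Cfsg.Agent.Lib.BenderOne

universe u

open BenderOne8.Single in
/-- Node C2. -/
theorem propRegularFinal : PropRegular.{u} :=
  BenderOne8.Single.propRegular BenderOne67.C2.propCommEnd
    (BenderOne83.Shape.propShape BenderOne8.Single.propTop)
    BenderOne9.C2.End.propEndPrimePow BenderOne43.propEndA BenderOne9.C2.End.propEndB

/-- Part I of Bender's theorem. -/
theorem propSplitFinal : PropSplit.{u} :=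
  propSplit BenderSuzuki.propMain propReduction NodeA.propCoreCentral propNoBad propTwoTrans
    propRegularFinal

/-- Part I in the form used by the consumers. -/
theorem propPartOneFinal : BenderConsumers23.PropPartOne.{u} :=
  propPartOne propSplitFinal

end Cfsg.Agent.Lib.BenderOne
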