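import Cfsg.Agent.Lib.BenderOne.Assemble
import Cfsg.Agent.Lib.BenderDeps.SolvableEmbedded
import Cfsg.Agent.Lib.BenderConsumers23.Basic

/-!
# Bender's theorem: `PropPartOne` from `PropSplit`
-/

set_option autoImplicit false

namespace Cfsg.Agent.Lib.BenderOne

open Cfsg.Agent.Lib.Involutions.Basic Cfsg.Agent.Lib.Involutions.StronglyEmbedded

universe u

/-- The form of part I used by the consumers. -/
theorem propPartOne (hS : PropSplit.{u}) : BenderConsumers23.PropPartOne.{u} := by
  intro G _ _ H hSE h2 hcore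
  have hfour := BenderDeps.SolvableEmbedded.hasFour_of_twoRank hSE h2
  obtain ⟨Q, -, hR⟩ := hS G H hSE hfour hcore
  obtain ⟨t, ht, htH⟩ := exists_invol_not_mem hSE
  exact ⟨t, Q, (hyp hSE hfour hcore hR ht htH).setup⟩

end Cfsg.Agent.Lib.BenderOne
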