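import Cfsg.Agent.Lib.BenderOne.Interface
import Cfsg.Agent.Lib.Involutions.StronglyEmbedded

/-!
# Bender's theorem, part I: facts about a split strongly embedded subgroup
-/

set_option autoImplicit false
set_option linter.style.haveILetI false

namespace Cfsg.Agent.Lib.BenderOne

open Subgroup
open Cfsg.Agent.Lib.Involutions.Basic Cfsg.Agent.Lib.Involutions.StronglyEmbedded

universe u

variable {G : Type u} [Group G] [Finite G] {H Q : Subgroup G}

omit [Finite G] in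
/-- The two-coset stabiliser has no element of even order. -/
theorem odd_orderOf_of_fix (hSE : Cfsg.IsStronglyEmbedded H) {d g : G} (hg : g ∉ H) (hd : d ∈ H)
    (hdg : g⁻¹ * (d * g) ∈ H) : Odd (orderOf d) :=
  (hSE.2.2 g hg).of_dvd_nat (Subgroup.orderOf_dvd_natCard _
    (mem_inf.2 ⟨hd, mem_conj_iff.2 (by rwa [← mul_assoc] at hdg)⟩))

/-- A regular normal 2-subgroup contains every 2-element of `H`. -/
theorem mem_of_pow_two (hSE : Cfsg.IsStronglyEmbedded H) (hQ : IsPGroup 2 Q) (hR : Regular H Q)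
    {x : G} (hx : x ∈ H) {n : ℕ} (hxn : x ^ (2 ^ n) = 1) : x ∈ Q := by
  haveI : Fact (Nat.Prime 2) := ⟨Nat.prime_two⟩
  obtain ⟨g, -, hg⟩ := SetLike.exists_of_lt (lt_top_iff_ne_top.2 hSE.1)
  obtain ⟨q, hq, hq'⟩ := hR.trans g (x * g) hg fun hc => hg ((mul_mem_cancel_left hx).1 hc)
  have hd : q⁻¹ * x ∈ H := mul_mem (inv_mem (hR.le hq)) hx
  have hdg : g⁻¹ * (q⁻¹ * x * g) ∈ H := by
    have h2 := inv_mem hq'
    simpa [mul_assoc] using h2
  have hxp : IsPGroup 2 (Subgroup.zpowers x) := by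
    obtain ⟨k, -, hk⟩ := (Nat.dvd_prime_pow Nat.prime_two).1 (orderOf_dvd_of_pow_eq_one hxn)
    exact IsPGroup.of_card (n := k) (by rw [Nat.card_zpowers, hk])
  have hsup : IsPGroup 2 ↥(Q ⊔ Subgroup.zpowers x) :=
    hQ.to_sup_of_normal_left' hxp (Subgroup.zpowers_le.2 (mem_normalizer_iff.2 fun y => by
      refine ⟨fun hy => hR.conj_mem x hx y hy, fun hy => ?_⟩
      have := hR.conj_mem x⁻¹ (inv_mem hx) _ hy
      simpa [mul_assoc] using this))
  have hmem : q⁻¹ * x ∈ Q ⊔ Subgroup.zpowers x :=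
    mul_mem (mem_sup_left (inv_mem hq)) (mem_sup_right (Subgroup.mem_zpowers x))
  obtain ⟨k, hk⟩ := hsup ⟨_, hmem⟩
  have hk' : orderOf (q⁻¹ * x) ∣ 2 ^ k :=
    orderOf_dvd_of_pow_eq_one (by simpa using congrArg Subtype.val hk)
  have h1 : orderOf (q⁻¹ * x) = 1 := by
    have hodd := odd_orderOf_of_fix hSE hg hd hdg
    exact Nat.Coprime.eq_one_of_dvd ((Nat.coprime_two_right.2 hodd).pow_right k) hk'
  have : q = x := by
    rw [orderOf_eq_one_iff, inv_mul_eq_one] at h1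
    exact h1
  exact this ▸ hq

theorem mem_of_invol (hSE : Cfsg.IsStronglyEmbedded H) (hQ : IsPGroup 2 Q) (hR : Regular H Q)
    {x : G} (hx : x ∈ H) (h2 : orderOf x = 2) : x ∈ Q :=
  mem_of_pow_two hSE hQ hR hx (n := 1) (by rw [pow_one, ← h2, pow_orderOf_eq_one])

omit [Finite G] in
/-- A regular normal subgroup makes `H` transitive on the other cosets. -/
theorem twoTrans_of_split (h : Split H) : TwoTrans H := by
  obtain ⟨Q, -, hR⟩ := h
  exact fun g₁ g₂ h1 h2 => let ⟨q, hq, hq'⟩ := hR.trans g₁ g₂ h1 h2; ⟨q, hR.le hq, hq'⟩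

/-- A split strongly embedded subgroup satisfies (F). -/
theorem noBad_of_split (hSE : Cfsg.IsStronglyEmbedded H) (h : Split H) : NoBad H := by
  obtain ⟨Q, hQ, hR⟩ := h
  intro v j g hv hvH hj hg hjg hinv
  have hvQ := mem_of_invol hSE hQ hR hvH hv
  have hmem : j * j ∈ Q := by
    have h1 : v * (j * v⁻¹ * j⁻¹) ∈ Q := mul_mem hvQ (hR.conj_mem j hj _ (inv_mem hvQ))
    have h2 : v * (j * v⁻¹ * j⁻¹) = (j * j)⁻¹ := by
      rw [← mul_assoc, ← mul_assoc, hinv, mul_inv_rev]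
    rw [h2] at h1
    exact inv_mem_iff.1 h1
  obtain ⟨k, hk⟩ := hQ ⟨_, hmem⟩
  have hk' : orderOf j ∣ 2 ^ (k + 1) := orderOf_dvd_of_pow_eq_one (by
    have := congrArg Subtype.val hk
    simp only [SubmonoidClass.coe_pow, OneMemClass.coe_one] at this
    rw [pow_succ' 2 k, pow_mul, pow_two]
    exact this)
  exact orderOf_eq_one_iff.1 (Nat.Coprime.eq_one_of_dvd
    ((Nat.coprime_two_right.2 (odd_orderOf_of_fix hSE hg hj hjg)).pow_right (k + 1)) hk')

/-- In the core-free split case `H` has trivial odd core. -/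
theorem oddCore_eq_bot_of_split (hcore : H.normalCore = ⊥)
    (h : Split H) : Cfsg.oddCore ↥H = ⊥ := by
  obtain ⟨Q, hQ, hR⟩ := h
  rw [eq_bot_iff]
  intro x hx
  have hxodd : Odd (orderOf (x : G)) := by
    rw [Subgroup.orderOf_coe]
    exact BenderOne20.oddCore_odd.of_dvd_nat (Subgroup.orderOf_dvd_natCard _ hx)
  -- `x` centralises `Q`
  have hcomm : ∀ q ∈ Q, (x : G) * q = q * x := by
    intro q hq
    have hn : Cfsg.oddCore ↥H = Cfsg.oddCore ↥H := rfl
    set qH : ↥H := ⟨q, hR.le hq⟩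
    have h1 : x * qH * x⁻¹ * qH⁻¹ ∈ Cfsg.oddCore ↥H := by
      have h := mul_mem hx ((inferInstance : (Cfsg.oddCore ↥H).Normal).conj_mem x⁻¹ (inv_mem hx) qH)
      simpa [mul_assoc] using h
    have h2 : (x : G) * q * (x : G)⁻¹ * q⁻¹ ∈ Q := mul_mem (hR.conj_mem x x.2 q hq) (inv_mem hq)
    obtain ⟨k, hk⟩ := hQ ⟨_, h2⟩
    have hk' : orderOf ((x : G) * q * (x : G)⁻¹ * q⁻¹) ∣ 2 ^ k :=
      orderOf_dvd_of_pow_eq_one (by simpa using congrArg Subtype.val hk)
    have hodd : Odd (orderOf ((x : G) * q * (x : G)⁻¹ * q⁻¹)) := by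
      have e : ((x : G) * q * (x : G)⁻¹ * q⁻¹) = ((x * qH * x⁻¹ * qH⁻¹ : ↥H) : G) := rfl
      rw [e, Subgroup.orderOf_coe]
      exact BenderOne20.oddCore_odd.of_dvd_nat (Subgroup.orderOf_dvd_natCard _ h1)
    have := Nat.Coprime.eq_one_of_dvd ((Nat.coprime_two_right.2 hodd).pow_right k) hk'
    rw [orderOf_eq_one_iff, mul_inv_eq_one, mul_inv_eq_iff_eq_mul] at this
    exact this
  -- hence it lies in the core
  suffices (x : G) ∈ H.normalCore by
    rw [hcore, mem_bot] at this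
    exact mem_bot.2 (Subtype.ext this)
  intro g
  by_cases hg : g⁻¹ ∈ H
  · have hgi := inv_mem hg
    rw [inv_inv] at hgi
    exact mul_mem (mul_mem hgi x.2) hg
  obtain ⟨q, hq, hq'⟩ := hR.trans g⁻¹ ((x : G) * g⁻¹) hg
    fun hc => hg ((mul_mem_cancel_left x.2).1 hc)
  -- `x` agrees with `q` on the coset
  have key : ∀ k : ℕ, ((g⁻¹)⁻¹ * ((x : G) ^ k)⁻¹ * q ^ k * g⁻¹ : G) ∈ H := by
    intro k
    induction k with
    | zero => simp
    | succ k ih =>
      have hc : Commute ((x : G) ^ k)⁻¹ q :=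
        ((show Commute (x : G) q from hcomm q hq).pow_left k).inv_left
      have hc2 : Commute (x : G) (q ^ k) := (show Commute (x : G) q from hcomm q hq).pow_right k
      have e : (g⁻¹)⁻¹ * ((x : G) ^ (k + 1))⁻¹ * q ^ (k + 1) * g⁻¹ =
          ((g⁻¹)⁻¹ * ((x : G) ^ k)⁻¹ * q ^ k * g⁻¹) * (((x : G) * g⁻¹)⁻¹ * (q * g⁻¹)) := by
        rw [pow_succ' (x : G) k, pow_succ q k, mul_inv_rev, mul_inv_rev ((x : G)) g⁻¹]
        simp only [inv_inv, mul_assoc, inv_mul_cancel_left]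
        congr 2
        rw [← mul_assoc (x : G)⁻¹, hc2.inv_left.eq, mul_assoc]
      rw [e]; exact mul_mem ih hq'
  obtain ⟨j, hj⟩ := hQ ⟨q, hq⟩
  have h1 := key (orderOf (x : G))
  rw [pow_orderOf_eq_one, inv_one, mul_one] at h1
  have hqx : q ^ orderOf (x : G) = 1 :=
    hR.free g⁻¹ hg _ (pow_mem hq _) (by rwa [← mul_assoc])
  have hq1 : q = 1 := orderOf_eq_one_iff.1 (Nat.Coprime.eq_one_of_dvd
    ((Nat.coprime_two_left.2 hxodd).pow_left j |>.coprime_dvd_left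
      (orderOf_dvd_of_pow_eq_one (by simpa using congrArg Subtype.val hj)))
    (orderOf_dvd_of_pow_eq_one hqx))
  rw [hq1] at hq'
  simpa [mul_assoc] using inv_mem hq'

end Cfsg.Agent.Lib.BenderOne
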