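import Cfsg.Agent.Lib.BenderOne.Cycle

/-!
# Bender's theorem, part I, node B: definitions

See `notes/bender_nobad_proof.md`.  A member is a triangle `(c; a, b)` whose pair stabiliser has an
invariant Sylow `p`-subgroup fixing `c` and containing a non-trivial element inverted by the
swapper.
-/

set_option autoImplicit false

namespace Cfsg.Agent.Lib.BenderOne.NoBadProof

open Subgroup MulAction
open Cfsg.Agent.Lib.Involutions.Basic Cfsg.Agent.Lib.BenderOne20

variable {G Ω : Type*} [Group G] [MulAction G Ω]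

/-- The subgroup generated by the elements of `P` inverted by `u`. -/
def invGen (P : Subgroup G) (u : G) : Subgroup G :=
  closure {x : G | x ∈ P ∧ u * x * u⁻¹ = x⁻¹}

/-- The largest normal `p'`-subgroup of `D`, as a subgroup of `G`. -/
abbrev core (p : ℕ) (D : Subgroup G) : Subgroup G :=
  (Cfsg.pPrimeCore p ↥D).map D.subtype

/-- A triangle with a bad Sylow `p`-subgroup. -/
structure Member (p : ℕ) (a b c : Ω) (u : G) (P : Subgroup G) : Prop where
  ne : a ≠ b
  swap : u ∈ swapSet G a b
  fix : u • c = c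
  sylow : SylowIn p P (pairStab G a b)
  le : P ≤ stabilizer G c
  inv : u ∈ Subgroup.normalizer (P : Set G)
  bad : ∃ j ∈ P, j ≠ 1 ∧ u * j * u⁻¹ = j⁻¹

theorem invGen_le (P : Subgroup G) (u : G) : invGen P u ≤ P :=
  (closure_le _).2 fun _ hx => hx.1

theorem mem_invGen {P : Subgroup G} {u x : G} (hx : x ∈ P) (h : u * x * u⁻¹ = x⁻¹) :
    x ∈ invGen P u :=
  subset_closure ⟨hx, h⟩

/-- A subgroup of a point stabiliser is not normal in a simple group. -/
theorem normalizer_ne_top [IsSimpleGroup G] (hG : OneFix G Ω) {X : Subgroup G} (hX : X ≠ ⊥)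
    {c : Ω} (hc : X ≤ stabilizer G c) : Subgroup.normalizer (X : Set G) ≠ ⊤ := by
  intro h
  rw [Subgroup.normalizer_eq_top_iff] at h
  rcases h.eq_bot_or_eq_top with h' | h'
  · exact hX h'
  · haveI := hG.trans
    haveI := hG.nontrivial
    obtain ⟨d, hd⟩ := exists_ne c
    obtain ⟨g, hg⟩ := exists_smul_eq G c d
    exact hd (hg.symm.trans (hc (h'.symm ▸ mem_top g)))

end Cfsg.Agent.Lib.BenderOne.NoBadProof
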