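import Cfsg.Agent.Lib.BenderOne.Reduction
import Cfsg.Agent.Lib.BenderOne20.Triangle

/-!
# Bender's theorem, part I, node B: (R), (C0) and the chain lemma (K)
-/

set_option autoImplicit false
set_option linter.style.haveILetI false

namespace Cfsg.Agent.Lib.BenderOne

open Subgroup MulAction
open Cfsg.Agent.Lib.Involutions.Basic Cfsg.Agent.Lib.Involutions.StronglyEmbedded
open Cfsg.Agent.Lib.BenderOne20

universe u

/-- In a proper subgroup with a four group and two fixed points no involution inverts a non-trivial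
element of odd order fixing the fixed point of that involution. -/
def NoInverted (G Ω : Type*) [Group G] [MulAction G Ω] : Prop :=
  ∀ M : Subgroup G, M ≠ ⊤ →
    (∃ a ∈ M, ∃ b ∈ M, orderOf a = 2 ∧ orderOf b = 2 ∧ a ≠ b ∧ a * b = b * a) →
    (∃ x y : Ω, x ≠ y ∧ (∃ s ∈ invAt G x, s ∈ M) ∧ ∃ s ∈ invAt G y, s ∈ M) →
    ∀ (v j : G) (c : Ω), v ∈ invAt G c → v ∈ M → j ∈ M → j • c = c → Odd (orderOf j) →
      v * j * v⁻¹ = j⁻¹ → j = 1

variable {G : Type u} [Group G] [Finite G] {H : Subgroup G}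

/-- An involution of `H` inverts no non-trivial element of odd order of `H`, in the split case. -/
theorem eq_one_of_inverted_of_split (hSE : Cfsg.IsStronglyEmbedded H) (h : Split H) {v j : G}
    (hv : orderOf v = 2) (hvH : v ∈ H) (hj : j ∈ H) (hodd : Odd (orderOf j))
    (hinv : v * j * v⁻¹ = j⁻¹) : j = 1 := by
  obtain ⟨Q, hQ, hR⟩ := h
  have hvQ := mem_of_invol hSE hQ hR hvH hv
  have hmem : j * j ∈ Q := by
    have h1 : v * (j * v⁻¹ * j⁻¹) ∈ Q := mul_mem hvQ (hR.conj_mem j hj _ (inv_mem hvQ))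
    have h2 : v * (j * v⁻¹ * j⁻¹) = (j * j)⁻¹ := by
      rw [← mul_assoc, ← mul_assoc, hinv, mul_inv_rev]
    rw [h2] at h1
    exact inv_mem_iff.1 h1
  obtain ⟨k, hk⟩ := hQ ⟨_, hmem⟩
  have hk' : orderOf j ∣ 2 ^ (k + 1) := orderOf_dvd_of_pow_eq_one (by
    have := congrArg Subtype.val hk
    simp only [SubmonoidClass.coe_pow, OneMemClass.coe_one] at this
    rw [pow_succ' 2 k, pow_mul, pow_two]
    exact this)
  exact orderOf_eq_one_iff.1 (Nat.Coprime.eq_one_of_dvd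
    ((Nat.coprime_two_right.2 hodd).pow_right (k + 1)) hk')

/-- A conjugate of a strongly embedded subgroup is strongly embedded. -/
theorem stronglyEmbedded_conj (hSE : Cfsg.IsStronglyEmbedded H) (g : G) :
    Cfsg.IsStronglyEmbedded (H.map (MulAut.conj g).toMonoidHom) := by
  refine of_forall_conj ?_ ?_ fun t ht ht2 k hk => ?_
  · intro h
    refine hSE.1 ((Subgroup.eq_top_iff' H).2 fun x => ?_)
    have hx : g * x * g⁻¹ ∈ H.map (MulAut.conj g).toMonoidHom := h.symm ▸ mem_top _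
    simpa [mem_conj_iff, mul_assoc] using hx
  · rw [Subgroup.card_map_of_injective (MulAut.conj g).injective]; exact hSE.2.1
  · rw [mem_conj_iff] at ht hk ⊢
    refine mem_of_conj_mem hSE (t := g⁻¹ * t * g) ?_ ht ?_
    · have := orderOf_conj_eq g⁻¹ t
      rw [inv_inv] at this
      rw [this, ht2]
    · simpa [mul_assoc] using hk

/-- The property used in node B follows from node A and the induction hypothesis. -/
theorem noInverted (h : Min G H) (hA : CoreCentral H) : NoInverted G (G ⧸ H) := by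
  intro M hM hfour hmany v j c hv hvM hjM hjc hodd hinv
  obtain ⟨g, rfl⟩ := QuotientGroup.mk_surjective c
  set L := H.map (MulAut.conj g).toMonoidHom
  have hL := stronglyEmbedded_conj h.se g
  have hmemL : ∀ {x : G}, x • (g : G ⧸ H) = g → x ∈ L := fun {x} hx =>
    mem_conj_iff.2 (smul_coset_eq_iff.1 hx)
  have hG := oneFix_of_stronglyEmbedded h.se
  obtain ⟨x, y, hxy, ⟨s, hs, hsM⟩, r, hr, hrM⟩ := hmany
  have hML : ¬ M ≤ L := by
    intro hle
    refine hxy ((hG.eq_of_fix (y := (g : G ⧸ H)) hs.1 hs.2 ?_).trans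
      (hG.eq_of_fix (x := (g : G ⧸ H)) hr.1 ?_ hr.2))
    · exact smul_coset_eq_iff.2 (mem_conj_iff.1 (hle hsM))
    · exact smul_coset_eq_iff.2 (mem_conj_iff.1 (hle hrM))
  have hvL : v ∈ L := hmemL hv.2
  have hSE' := subgroupOf_stronglyEmbedded hL hML hv.1 hvL hvM
  obtain ⟨a, ha, b, hb, ha2, hb2, hne, hab⟩ := hfour
  obtain ⟨m, hm⟩ := exists_conj_mem hSE' (u := ⟨a, ha⟩) ((Subgroup.orderOf_mk a ha).trans ha2)
  have hfour' : BenderOne20.HasFour (L.subgroupOf M) := by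
    refine ⟨m * ⟨a, ha⟩ * m⁻¹, hm, m * ⟨b, hb⟩ * m⁻¹, centralizer_le hSE'
      ((orderOf_conj_eq m _).trans ((Subgroup.orderOf_mk a ha).trans ha2)) hm ?_,
      (orderOf_conj_eq m _).trans ((Subgroup.orderOf_mk a ha).trans ha2),
      (orderOf_conj_eq m _).trans ((Subgroup.orderOf_mk b hb).trans hb2),
      fun he => hne (congrArg Subtype.val (mul_left_cancel (mul_right_cancel he))), ?_⟩
    all_goals
      have hc : (⟨a, ha⟩ : M) * ⟨b, hb⟩ = ⟨b, hb⟩ * ⟨a, ha⟩ := Subtype.ext hab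
    · rw [mem_centralizer_singleton_iff]
      calc m * ⟨b, hb⟩ * m⁻¹ * (m * ⟨a, ha⟩ * m⁻¹) = m * (⟨b, hb⟩ * ⟨a, ha⟩) * m⁻¹ := by group
        _ = m * ⟨a, ha⟩ * m⁻¹ * (m * ⟨b, hb⟩ * m⁻¹) := by rw [← hc]; group
    · calc m * ⟨a, ha⟩ * m⁻¹ * (m * ⟨b, hb⟩ * m⁻¹) = m * (⟨a, ha⟩ * ⟨b, hb⟩) * m⁻¹ := by group
        _ = m * ⟨b, hb⟩ * m⁻¹ * (m * ⟨a, ha⟩ * m⁻¹) := by rw [hc]; group
  obtain ⟨h1, h2, h3⟩ := quotient_core hSE' hfour'
  have hlt : Nat.card (M ⧸ (L.subgroupOf M).normalCore) < Nat.card G := by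
    have e1 := Subgroup.card_eq_card_quotient_mul_card_subgroup (L.subgroupOf M).normalCore
    have e2 : Nat.card M < Nat.card G :=
      lt_of_le_of_ne (card_le_card_group M) fun he => hM (eq_top_of_card_eq M he)
    have e3 : 0 < Nat.card (L.subgroupOf M).normalCore := Nat.card_pos
    nlinarith
  have hS := h.below _ _ hlt h1 h2 h3
  set f := QuotientGroup.mk' (L.subgroupOf M).normalCore
  have hfv : orderOf (f ⟨v, hvM⟩) = 2 := by
    refine orderOf_eq_prime ?_ fun he => not_mem_core hSE' (t := ⟨v, hvM⟩)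
      ((Subgroup.orderOf_mk v hvM).trans hv.1) ?_
    · rw [← map_pow]
      have : (⟨v, hvM⟩ : M) ^ 2 = 1 := Subtype.ext (by simpa [pow_two] using invol_mul_self hv.1)
      rw [this, map_one]
    · exact (QuotientGroup.eq_one_iff _).1 he
  have hfj : f ⟨j, hjM⟩ = 1 := by
    refine eq_one_of_inverted_of_split h1 hS hfv (mem_map_of_mem f (mem_subgroupOf.2 hvL))
      (mem_map_of_mem f (mem_subgroupOf.2 (hmemL hjc))) ?_ ?_
    · exact hodd.of_dvd_nat (by
        refine (orderOf_map_dvd f _).trans ?_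
        rw [Subgroup.orderOf_mk])
    · rw [← map_inv, ← map_mul, ← map_mul, ← map_inv]
      exact congrArg f (Subtype.ext hinv)
  have hcore : (⟨j, hjM⟩ : M) ∈ Cfsg.oddCore ↥M :=
    core_le_oddCore hSE' ((QuotientGroup.eq_one_iff _).1 hfj)
  have hcom := hA M hM ⟨a, ha, b, hb, ha2, hb2, hne, hab⟩
    ⟨s, hsM, r, hrM, hs.1, hr.1, fun k hk hk' => hxy ((hG.eq_of_fix hs.1 hs.2
      (y := (k : G ⧸ H)) (smul_coset_eq_iff.2 (by rw [mul_assoc]; exact hk))).trans
      (hG.eq_of_fix hr.1 (smul_coset_eq_iff.2 (by rw [mul_assoc]; exact hk')) hr.2))⟩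
    v hvM hv.1 j ⟨_, hcore, rfl⟩
  rw [hcom, mul_inv_cancel_right] at hinv
  have h2j : orderOf j ∣ 2 :=
    orderOf_dvd_of_pow_eq_one (by rw [pow_two]; exact mul_eq_one_iff_eq_inv.2 hinv)
  exact orderOf_eq_one_iff.1 (Nat.Coprime.eq_one_of_dvd (Nat.coprime_two_right.2 hodd) h2j)

namespace Triangle

variable {Ω : Type*} [MulAction G Ω] (hG : OneFix G Ω) (hA : NoInverted G Ω)
include hG

/-- Four groups can be found at every point. -/
theorem four_at (hfour : ∃ a b : G, orderOf a = 2 ∧ orderOf b = 2 ∧ a ≠ b ∧ a * b = b * a)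
    (d : Ω) : ∃ a ∈ invAt G d, ∃ b ∈ invAt G d, a ≠ b ∧ a * b = b * a := by
  obtain ⟨a, b, ha, hb, hne, hab⟩ := hfour
  obtain ⟨x, hx⟩ := hG.exists_fix ha
  obtain ⟨y, hy⟩ := hG.exists_fix hb
  have hxy : x = y := hG.fix_eq_of_commute ⟨ha, hx⟩ ⟨hb, hy⟩ hab
  subst hxy
  haveI := hG.trans
  obtain ⟨g, rfl⟩ := exists_smul_eq G x d
  exact ⟨_, OneFix.conj_mem_invAt ⟨ha, hx⟩, _, OneFix.conj_mem_invAt ⟨hb, hy⟩,
    fun h => hne (mul_left_cancel (mul_right_cancel h)), by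
      calc g * a * g⁻¹ * (g * b * g⁻¹) = g * (a * b) * g⁻¹ := by group
        _ = g * b * g⁻¹ * (g * a * g⁻¹) := by rw [hab]; group⟩

variable (hfour : ∃ a b : G, orderOf a = 2 ∧ orderOf b = 2 ∧ a ≠ b ∧ a * b = b * a)
variable {a b c : Ω} (hab : a ≠ b) {u : G} (hu : u ∈ swapSet G a b) (hc : u • c = c)
include hfour hab hu hc

/-- The stabiliser of `(a, b)` moves the fixed point of a swapper. -/
theorem exists_moves : ∃ d ∈ pairStab G a b, d • c ≠ c := by
  by_contra hall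
  push Not at hall
  have hsub : swapSet G a b ⊆ invAt G c := by
    intro w hw
    obtain ⟨d, hd, rfl⟩ := hG.pairStab_conj_swap hab hu hw
    have := OneFix.conj_mem_invAt (g := d) (⟨hu.1, hc⟩ : u ∈ invAt G c)
    rwa [hall d hd] at this
  have heq : swapSet G a b = invAt G c := by
    refine Set.eq_of_subset_of_ncard_le hsub (le_of_eq ?_) (Set.toFinite _)
    rw [← Nat.card_coe_set_eq, ← Nat.card_coe_set_eq, hG.card_swapSet hab, hG.card_invAt c b]
  refine hG.not_mem_normalizer (hG.odd_pairStab hab) (fun s hs t ht => ?_) (four_at hG hfour c)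
    ⟨hu.1, hc⟩ (mem_normalizer_iff.2 fun x => ?_)
  · rw [← heq] at hs ht; exact hG.pairStab_conj_swap hab hs ht
  · simp only [Subgroup.mem_inf, mem_stabilizer_iff, invol_inv hu.1, mul_smul, hu.2, smul_swap hu]
    have e : ∀ z w : Ω, u • z = w → z = u • w := fun z w h => by
      rw [← h, smul_smul, invol_mul_self hu.1, one_smul]
    exact ⟨fun ⟨h1, h2⟩ => ⟨by rw [h2, smul_swap hu], by rw [h1, hu.2]⟩,
      fun ⟨h1, h2⟩ => ⟨(e _ _ h2).trans (smul_swap hu), (e _ _ h1).trans hu.2⟩⟩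

variable {j : G} (hj : j ∈ pairStab G a b) (hjc : j • c = c) (hj1 : j ≠ 1)
  (hinv : u * j * u⁻¹ = j⁻¹)
include hA hj hjc hj1 hinv

/-- (R): a proper subgroup containing `G_ab` and a bad swapper contains no involution fixing `a`. -/
theorem not_mem_of_pairStab_le {M : Subgroup G} (hM : M ≠ ⊤) (hD : pairStab G a b ≤ M)
    (huM : u ∈ M) {t : G} (ht : t ∈ invAt G a) : t ∉ M := by
  intro htM
  obtain ⟨p, hp, q, hq, hne, hpq⟩ := four_at hG hfour a
  have hsub : ∀ s ∈ invAt G a, s ∈ M := fun s hs => by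
    obtain ⟨d, hd, rfl⟩ := hG.pairStab_conj_invAt hab ht hs
    exact mul_mem (mul_mem (hD hd) htM) (inv_mem (hD hd))
  refine hj1 (hA M hM ⟨p, hsub p hp, q, hsub q hq, hp.1, hq.1, hne, hpq⟩
    ⟨a, c, fun h => hab ((h ▸ hu.2).symm.trans (by rw [h, hc])).symm, ⟨t, ht, htM⟩, u,
      ⟨hu.1, hc⟩, huM⟩ u j c ⟨hu.1, hc⟩ huM (hD hj) hjc ?_ hinv)
  exact (hG.odd_pairStab hab).of_dvd_nat (Subgroup.orderOf_dvd_natCard _ hj)

/-- (C0): no proper subgroup contains `G_ab`, `G_ca` and a bad swapper. -/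
theorem not_le_of_both {M : Subgroup G} (hM : M ≠ ⊤) (hD : pairStab G a b ≤ M)
    (hE : pairStab G c a ≤ M) (huM : u ∈ M) : False := by
  obtain ⟨p, hp, q, hq, hne, hpq⟩ := four_at hG hfour c
  have hca : c ≠ a := fun h => hab ((h ▸ hc).symm.trans hu.2)
  have hsub : ∀ s ∈ invAt G c, s ∈ M := fun s hs => by
    obtain ⟨d, hd, rfl⟩ := hG.pairStab_conj_invAt hca (⟨hu.1, hc⟩ : u ∈ invAt G c) hs
    exact mul_mem (mul_mem (hE hd) huM) (inv_mem (hE hd))
  obtain ⟨d, hd, hdc⟩ := exists_moves hG hfour hab hu hc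
  refine hj1 (hA M hM ⟨p, hsub p hp, q, hsub q hq, hp.1, hq.1, hne, hpq⟩
    ⟨d • c, c, hdc, ⟨d * u * d⁻¹, OneFix.conj_mem_invAt ⟨hu.1, hc⟩,
      mul_mem (mul_mem (hD hd) huM) (inv_mem (hD hd))⟩, u, ⟨hu.1, hc⟩, huM⟩
    u j c ⟨hu.1, hc⟩ huM (hD hj) hjc ?_ hinv)
  exact (hG.odd_pairStab hab).of_dvd_nat (Subgroup.orderOf_dvd_natCard _ hj)

end Triangle

/-! ## The chain lemma -/

/-- An involution without fixed points outside `S` inverts `S'/S`. -/
theorem inverts_mod {S' S : Subgroup G} (hSS : S ≤ S') (hodd : Odd (Nat.card S')) {v : G}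
    (hv : v * v = 1) (hvS' : ∀ x ∈ S', v * x * v ∈ S') (hvS : ∀ x ∈ S, v * x * v ∈ S)
    (hnorm : ∀ x ∈ S', ∀ s ∈ S, x * s * x⁻¹ ∈ S)
    (hfix : ∀ x ∈ S', v * x * v = x → x ∈ S) : ∀ x ∈ S', x * (v * x * v) ∈ S := by
  -- a fixed coset contains a fixed element
  have hlift : ∀ x ∈ S', x⁻¹ * (v * x * v) ∈ S → x ∈ S := by
    intro x hx hs
    set s := x⁻¹ * (v * x * v) with hsdef
    have hsv : v * s * v = s⁻¹ := by
      rw [hsdef]
      calc v * (x⁻¹ * (v * x * v)) * v = v * x⁻¹ * v * x * (v * v) := by group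
        _ = (v * v)⁻¹ * v * x⁻¹ * v⁻¹ * x := by rw [hv]; rw [inv_eq_of_mul_eq_one_right hv]; group
        _ = (x⁻¹ * (v * x * v))⁻¹ := by group
    obtain ⟨k, hk⟩ : Odd (orderOf s) :=
      hodd.of_dvd_nat (Subgroup.orderOf_dvd_natCard _ (hSS hs))
    set r := s ^ (k + 1) with hr
    have hr2 : r * r = s := by
      rw [hr, ← pow_add, show k + 1 + (k + 1) = orderOf s + 1 by omega, pow_succ,
        pow_orderOf_eq_one, one_mul]
    have hrv : v * r * v = r⁻¹ := by
      rw [hr, ← inv_pow, ← hsv]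
      have : ∀ n : ℕ, v * s ^ n * v = (v * s * v) ^ n := fun n => by
        induction n with
        | zero => simp [hv]
        | succ n ih =>
          rw [pow_succ (v * s * v), ← ih, pow_succ]
          calc v * (s ^ n * s) * v = v * s ^ n * (v * v) * s * v := by rw [hv]; group
            _ = v * s ^ n * v * (v * s * v) := by group
      exact this _
    have hxr : x * r ∈ S := by
      refine hfix _ (mul_mem hx (hSS (pow_mem hs _))) ?_
      calc v * (x * r) * v = v * x * v * (v * r * v) := by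
            rw [← mul_assoc (v * x * v), ← mul_assoc (v * x * v), mul_assoc (v * x) v v, hv,
              mul_one]; group
        _ = x * s * r⁻¹ := by rw [hrv, hsdef]; group
        _ = x * r := by rw [← hr2]; group
    have h2 := mul_mem hxr (inv_mem (pow_mem hs (k + 1) : r ∈ S))
    rwa [hr, mul_inv_cancel_right] at h2
  haveI : (S.subgroupOf S').Normal := ⟨fun s hs x => mem_subgroupOf.2 (by
    simpa using hnorm x x.2 s (mem_subgroupOf.1 hs))⟩
  let σ : ↥S' →* ↥S' :=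
    { toFun := fun x => ⟨v * x * v, hvS' x x.2⟩
      map_one' := Subtype.ext (by simp [hv])
      map_mul' := fun x y => Subtype.ext (by
        show v * (↑x * ↑y) * v = v * ↑x * v * (v * ↑y * v)
        rw [← mul_assoc (v * ↑x * v), ← mul_assoc (v * ↑x * v), mul_assoc (v * (x : G)) v v, hv,
          mul_one]; simp only [mul_assoc]) }
  let τ : ↥S' ⧸ S.subgroupOf S' →* ↥S' ⧸ S.subgroupOf S' :=
    QuotientGroup.map _ _ σ fun x hx => mem_subgroupOf.2 (hvS x (mem_subgroupOf.1 hx))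
  have hττ : ∀ y, τ (τ y) = y := fun y => by
    induction y using QuotientGroup.induction_on with
    | H x =>
      show ((σ (σ x) : ↥S') : ↥S' ⧸ S.subgroupOf S') = x
      congr 1
      apply Subtype.ext
      show v * (v * ↑x * v) * v = ↑x
      rw [← mul_assoc, ← mul_assoc, hv, one_mul, mul_assoc, hv, mul_one]
  have hfree : ∀ y, τ y = y → y = 1 := fun y hy => by
    induction y using QuotientGroup.induction_on with
    | H x =>
      rw [QuotientGroup.eq_one_iff, mem_subgroupOf]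
      exact hlift x x.2 (mem_subgroupOf.1 (QuotientGroup.eq.1 hy.symm))
  have hbij : Function.Surjective fun y => y⁻¹ * τ y := by
    refine Finite.injective_iff_surjective.1 fun y z hyz => ?_
    have h1 : z * y⁻¹ * τ y = τ z := by
      change y⁻¹ * τ y = z⁻¹ * τ z at hyz
      rw [mul_assoc, hyz, mul_inv_cancel_left]
    have h2 : τ (z * y⁻¹) = z * y⁻¹ := by rw [map_mul, map_inv, ← h1, mul_inv_cancel_right]
    exact (mul_inv_eq_one.1 (hfree _ h2)).symm
  intro x hx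
  obtain ⟨w, hw⟩ := hbij ((⟨x, hx⟩ : ↥S') : ↥S' ⧸ S.subgroupOf S')
  have hinv : τ ((⟨x, hx⟩ : ↥S') : ↥S' ⧸ S.subgroupOf S') =
      ((⟨x, hx⟩ : ↥S') : ↥S' ⧸ S.subgroupOf S')⁻¹ := by
    rw [← hw]
    simp only [map_mul, map_inv, hττ, mul_inv_rev, inv_inv]
  have h3 := mul_eq_one_iff_eq_inv'.2 hinv
  exact mem_subgroupOf.1 ((QuotientGroup.eq_one_iff _).1 h3 :)

/-- (K): if `u` and `w` are involutions acting on a nilpotent subgroup `Q` of odd order, coprime to
the order of `z = u w`, and `z` centralises their fixed points in `Q`, then `z` centralises `Q`. -/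
theorem mul_centralizes {Q : Subgroup G} [Group.IsNilpotent Q] (hodd : Odd (Nat.card Q)) {u w : G}
    (hu : u * u = 1) (hw : w * w = 1) (hQu : ∀ x ∈ Q, u * x * u ∈ Q)
    (hQw : ∀ x ∈ Q, w * x * w ∈ Q) (hcop : (orderOf (u * w)).Coprime (Nat.card Q))
    (hfu : ∀ x ∈ Q, u * x * u = x → u * w * x = x * (u * w))
    (hfw : ∀ x ∈ Q, w * x * w = x → u * w * x = x * (u * w)) :
    ∀ x ∈ Q, u * w * x = x * (u * w) := by
  set z := u * w with hz
  set S := Q ⊓ centralizer {z} with hS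
  have hmem : ∀ {x}, x ∈ S ↔ x ∈ Q ∧ z * x = x * z := fun {x} => by
    rw [hS, Subgroup.mem_inf, mem_centralizer_singleton_iff, eq_comm]
  have hzi : z⁻¹ = w * u := by
    rw [hz, mul_inv_rev, inv_eq_of_mul_eq_one_right hu, inv_eq_of_mul_eq_one_right hw]
  have hcz : ∀ v : G, v * v = 1 → v * z * v = z⁻¹ → ∀ x, z * x = x * z →
      z * (v * x * v) = v * x * v * z := by
    intro v hv hvz x hx
    have h1 : z⁻¹ * x = x * z⁻¹ := ((show Commute z x from hx).inv_left).eq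
    have h2 : v * z⁻¹ * v = z := by
      rw [← hvz, ← mul_assoc, ← mul_assoc, hv, one_mul, mul_assoc, hv, mul_one]
    calc z * (v * x * v) = v * z⁻¹ * v * (v * x * v) := by rw [h2]
      _ = v * (z⁻¹ * x) * v := by
          simp only [mul_assoc]; rw [← mul_assoc v v (x * v), hv, one_mul]
      _ = v * x * (v * v) * z⁻¹ * v := by rw [h1, hv, mul_one]; group
      _ = v * x * v * z := by
          conv_rhs => rw [← h2]
          simp only [mul_assoc]
  have huz : u * z * u = z⁻¹ := by rw [hzi, hz, ← mul_assoc, hu, one_mul]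
  have hwz : w * z * w = z⁻¹ := by rw [hzi, hz, mul_assoc, mul_assoc u w w, hw, mul_one]
  have hSu : ∀ x ∈ S, u * x * u ∈ S := fun x hx =>
    hmem.2 ⟨hQu x (hmem.1 hx).1, hcz u hu huz x (hmem.1 hx).2⟩
  have hSw : ∀ x ∈ S, w * x * w ∈ S := fun x hx =>
    hmem.2 ⟨hQw x (hmem.1 hx).1, hcz w hw hwz x (hmem.1 hx).2⟩
  by_contra hall
  push Not at hall
  obtain ⟨x₀, hx₀, hx₀'⟩ := hall
  have hlt : S.subgroupOf Q < ⊤ := by
    rw [lt_top_iff_ne_top, ne_eq, subgroupOf_eq_top]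
    exact fun h => hx₀' (hmem.1 (h hx₀)).2
  obtain ⟨⟨x, hxQ⟩, hxN, hxS⟩ := SetLike.exists_of_lt
    (Group.normalizerCondition_of_isNilpotent _ hlt)
  have hxS' : x ∉ S := fun h => hxS (mem_subgroupOf.2 h)
  set S' := Q ⊓ normalizer (S : Set G) with hS'
  have hxS'' : x ∈ S' := mem_inf.2 ⟨hxQ, mem_normalizer_iff.2 fun y => by
    constructor
    · intro hy
      exact mem_subgroupOf.1 ((mem_normalizer_iff.1 hxN ⟨y, (hmem.1 hy).1⟩).1 (mem_subgroupOf.2 hy))
    · intro hy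
      have hyQ : y ∈ Q := by
        have := mul_mem (mul_mem (inv_mem hxQ) (hmem.1 hy).1) hxQ
        simpa [mul_assoc] using this
      exact mem_subgroupOf.1 ((mem_normalizer_iff.1 hxN ⟨y, hyQ⟩).2 (mem_subgroupOf.2 hy))⟩
  have hSS : S ≤ S' := le_inf inf_le_left le_normalizer
  have hinv : ∀ v : G, v * v = 1 → (∀ y ∈ Q, v * y * v ∈ Q) → (∀ y ∈ S, v * y * v ∈ S) →
      (∀ y ∈ Q, v * y * v = y → z * y = y * z) →
      (∀ y ∈ S', v * y * v ∈ S') ∧ ∀ y ∈ S', y * (v * y * v) ∈ S := by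
    intro v hv hvQ hvS hfv
    have hvi : v⁻¹ = v := inv_eq_of_mul_eq_one_right hv
    have hvN : v ∈ normalizer (S : Set G) := mem_normalizer_iff.2 fun y => by
      rw [hvi]
      refine ⟨hvS y, fun hy => ?_⟩
      have := hvS _ hy
      rwa [← mul_assoc, ← mul_assoc, hv, one_mul, mul_assoc, hv, mul_one] at this
    have h1 : ∀ y ∈ S', v * y * v ∈ S' := fun y hy =>
      mem_inf.2 ⟨hvQ y hy.1, mul_mem (mul_mem hvN hy.2) hvN⟩
    exact ⟨h1, inverts_mod hSS (hodd.of_dvd_nat (card_dvd_of_le inf_le_left)) hv h1 hvS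
      (fun y hy s hs => (mem_normalizer_iff.1 hy.2 s).1 hs) fun y hy hy' =>
      hmem.2 ⟨hy.1, hfv y hy.1 hy'⟩⟩
  obtain ⟨hu1, hu2⟩ := hinv u hu hQu hSu hfu
  obtain ⟨-, hw2⟩ := hinv w hw hQw hSw hfw
  -- `z` fixes the coset `x S`
  have hs : x⁻¹ * (z⁻¹ * x * z) ∈ S := by
    have h1 := hu2 x hxS''
    have h2 := hw2 _ (hu1 x hxS'')
    have h3 := mul_mem (inv_mem h1) ((mem_normalizer_iff.1 hxS''.2 _).1 h2)
    rw [hzi, hz]
    have e : (x * (u * x * u))⁻¹ * (x * (u * x * u * (w * (u * x * u) * w)) * x⁻¹) =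
        w * u * x * (u * w) * x⁻¹ := by group
    rw [e] at h3
    have h4 := (mem_normalizer_iff.1 (inv_mem hxS''.2) _).1 h3
    simpa [mul_assoc] using h4
  set s := x⁻¹ * (z⁻¹ * x * z) with hsdef
  have hsc : z * s = s * z := (hmem.1 hs).2
  have hpow : ∀ k : ℕ, (z ^ k)⁻¹ * x * z ^ k = x * s ^ k := by
    intro k
    induction k with
    | zero => simp
    | succ k ih =>
      have h1 : Commute (z ^ k)⁻¹ s := ((show Commute z s from hsc).pow_left k).inv_left
      calc (z ^ (k + 1))⁻¹ * x * z ^ (k + 1) = (z ^ k)⁻¹ * (z⁻¹ * x * z) * z ^ k := by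
            rw [pow_succ' z k]; group
        _ = (z ^ k)⁻¹ * x * z ^ k * ((z ^ k)⁻¹ * s * z ^ k) := by rw [hsdef]; group
        _ = x * s ^ (k + 1) := by rw [ih, h1.eq, pow_succ]; group
  have h5 := hpow (orderOf z)
  rw [pow_orderOf_eq_one, inv_one, one_mul, mul_one, left_eq_mul] at h5
  have h6 : orderOf s = 1 := Nat.Coprime.eq_one_of_dvd
    (hcop.coprime_dvd_left (orderOf_dvd_of_pow_eq_one h5)) (orderOf_dvd_natCard Q (hmem.1 hs).1)
  rw [orderOf_eq_one_iff] at h6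
  rw [hsdef, inv_mul_eq_one] at h6
  refine hxS' (hmem.2 ⟨hxQ, ?_⟩)
  calc z * x = z * (z⁻¹ * x * z) := by rw [← h6]
    _ = x * z := by group

end Cfsg.Agent.Lib.BenderOne
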