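import Cfsg.Agent.Lib.BenderOne.NoBadDefs
import Cfsg.Agent.Lib.BenderOne.LocalTools
import Cfsg.Agent.Lib.OffenderComp.Facts

/-!
# Bender's theorem, part I, node B: the chain step

A `p'`-subgroup `W` of odd order that moves `c` and is invariant under `u` and the inverted part of
`P` has a fixed element of that part moving `c`.
-/

set_option autoImplicit false
set_option linter.style.haveILetI false

namespace Cfsg.Agent.Lib.BenderOne.NoBadProof

open Subgroup MulAction
open Cfsg.Agent.Lib.Involutions.Basic Cfsg.Agent.Lib.BenderOne20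

variable {G Ω : Type*} [Group G] [MulAction G Ω] [Finite G]

omit [Finite G] in
/-- The elements acting trivially on `N / S`. -/
theorem trivial_mul {N S : Subgroup G} {g h : G}
    (hgS : ∀ x ∈ S, g * x * g⁻¹ ∈ S) (hg : ∀ x ∈ N, g * x * g⁻¹ * x⁻¹ ∈ S)
    (hh : ∀ x ∈ N, h * x * h⁻¹ * x⁻¹ ∈ S) :
    ∀ x ∈ N, g * h * x * (g * h)⁻¹ * x⁻¹ ∈ S := by
  intro x hx
  have h1 := mul_mem (hgS _ (hh x hx)) (hg x hx)
  convert h1 using 1
  group

theorem exists_centralizer_moves (hG : OneFix G Ω) {c : Ω} {u : G} (hu : u ∈ invAt G c)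
    {p : ℕ} [hp : Fact p.Prime] {P W : Subgroup G} (hPp : IsPGroup p P) (hPc : P ≤ stabilizer G c)
    (_huP : u ∈ Subgroup.normalizer (P : Set G)) (hW : Odd (Nat.card W)) (hcop : ¬ p ∣ Nat.card W)
    (huW : u ∈ Subgroup.normalizer (W : Set G))
    (hVW : invGen P u ≤ Subgroup.normalizer (W : Set G)) (hmove : ¬ W ≤ stabilizer G c)
    (hp2 : p ≠ 2) :
    ∃ w ∈ W, w ∈ Subgroup.centralizer (invGen P u : Set G) ∧ w • c ≠ c := by
  set V := invGen P u with hVdef
  have huu : u * u = 1 := invol_mul_self hu.1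
  have hui : u⁻¹ = u := invol_inv hu.1
  have huV : u ∈ normalizer (V : Set G) := by
    have hsub : ∀ z ∈ V, u * z * u⁻¹ ∈ V := by
      intro z hz
      refine closure_induction (p := fun z _ => u * z * u⁻¹ ∈ V) ?_ ?_ ?_ ?_ hz
      · rintro x ⟨hx, hxi⟩
        rw [hxi]
        exact inv_mem (mem_invGen hx hxi)
      · simp
      · intro x y _ _ hx hy
        have := mul_mem hx hy
        simpa [mul_assoc] using this
      · intro x _ hx
        have := inv_mem hx
        simpa [mul_assoc] using this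
    rw [mem_normalizer_iff]
    intro z
    refine ⟨hsub z, fun hz => ?_⟩
    have := hsub _ hz
    rwa [hui, show u * (u * z * u) * u = (u * u) * z * (u * u) by group, huu, one_mul,
      mul_one] at this
  have hVp : IsPGroup p ↥V := hPp.to_le (invGen_le P u)
  set A := zpowers u ⊔ V with hA
  have hAsolv : Group.IsSolvable ↥A ∨ Group.IsSolvable ↥W :=
    Or.inr (LocalTools.isSolvable_odd hW)
  have hVcop : (Nat.card ↥V).Coprime (Nat.card W) := by
    obtain ⟨n, hn⟩ := IsPGroup.iff_card.1 hVp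
    rw [hn]
    exact (hp.out.coprime_iff_not_dvd.2 hcop).pow_left n
  have hAcop : (Nat.card ↥A).Coprime (Nat.card W) := by
    refine Nat.Coprime.coprime_dvd_left (Dvd.intro _ (OffenderComp.Aux.card_sup_inf
      (zpowers_le.2 huV))) (Nat.Coprime.mul_left ?_ hVcop)
    exact LocalTools.coprime_zpowers hu.1 hW
  have hAW : A ≤ normalizer (W : Set G) := sup_le (zpowers_le.2 huW) hVW
  -- an invariant Sylow subgroup of `W` moving `c`
  obtain ⟨q, hq, Q, hQ, hAQ, hQc⟩ : ∃ q : ℕ, q.Prime ∧ ∃ Q : Subgroup G, SylowIn q Q W ∧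
      A ≤ normalizer (Q : Set G) ∧ ¬ Q ≤ stabilizer G c := by
    by_contra hall
    push Not at hall
    refine hmove (le_trans (le_of_eq (Subgroup.eq_of_le_of_card_ge inf_le_left ?_).symm)
      (inf_le_right : W ⊓ stabilizer G c ≤ stabilizer G c))
    refine Nat.le_of_dvd Nat.card_pos ?_
    rw [← Nat.factorization_le_iff_dvd Nat.card_pos.ne' Nat.card_pos.ne']
    intro q
    by_cases hq : q.Prime
    · haveI := Fact.mk hq
      obtain ⟨S, hS⟩ := Coprime.exists_invariant_sylow hAW hAcop hAsolv q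
      have hle := hall q hq _ ⟨map_subtype_le _, Coprime.card_sylow_map S⟩ hS
      have hd := card_dvd_of_le (le_inf (map_subtype_le (S : Subgroup W)) hle)
      rw [Coprime.card_sylow_map S] at hd
      exact (hq.pow_dvd_iff_le_factorization Nat.card_pos.ne').1 hd
    · rw [Nat.factorization_eq_zero_of_not_prime _ hq]; exact Nat.zero_le _
  haveI := Fact.mk hq
  haveI := hQ.isPGroup.isNilpotent
  set S := Q ⊓ stabilizer G c with hS
  have hlt : S.subgroupOf Q < ⊤ := by
    rw [lt_top_iff_ne_top, ne_eq, subgroupOf_eq_top]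
    exact fun h => hQc (h.trans inf_le_right)
  obtain ⟨⟨x, hxQ⟩, hxN, hxS⟩ := SetLike.exists_of_lt
    (Group.normalizerCondition_of_isNilpotent _ hlt)
  set N := Q ⊓ normalizer (S : Set G) with hNdef
  have hSN : S ≤ N := le_inf inf_le_left le_normalizer
  have hxN' : x ∈ N := mem_inf.2 ⟨hxQ, mem_normalizer_iff.2 fun y => by
    constructor
    · intro hy
      exact mem_subgroupOf.1 ((mem_normalizer_iff.1 hxN ⟨y, (mem_inf.1 hy).1⟩).1
        (mem_subgroupOf.2 hy))
    · intro hy
      have hyQ : y ∈ Q := by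
        have := mul_mem (mul_mem (inv_mem hxQ) (mem_inf.1 hy).1) hxQ
        simpa [mul_assoc] using this
      exact mem_subgroupOf.1 ((mem_normalizer_iff.1 hxN ⟨y, hyQ⟩).2 (mem_subgroupOf.2 hy))⟩
  have hAc : A ≤ stabilizer G c := sup_le (zpowers_le.2 hu.2) ((invGen_le P u).trans hPc)
  have hAS : A ≤ normalizer (S : Set G) :=
    le_trans (le_inf hAQ (hAc.trans le_normalizer)) inf_normalizer_le_normalizer_inf
  have hAN : A ≤ normalizer (N : Set G) :=
    le_trans (le_inf hAQ (hAS.trans le_normalizer)) inf_normalizer_le_normalizer_inf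
  have hcN : ∀ g ∈ A, ∀ y ∈ N, g * y * g⁻¹ ∈ N := fun g hg y hy =>
    (mem_normalizer_iff.1 (hAN hg) y).1 hy
  have hcS : ∀ g ∈ A, ∀ y ∈ S, g * y * g⁻¹ ∈ S := fun g hg y hy =>
    (mem_normalizer_iff.1 (hAS hg) y).1 hy
  have huA : u ∈ A := mem_sup_left (mem_zpowers u)
  have hVA : V ≤ A := le_sup_right
  have hNS : ∀ y ∈ N, ∀ s ∈ S, y * s * y⁻¹ ∈ S := fun y hy s hs =>
    (mem_normalizer_iff.1 hy.2 s).1 hs
  have hoddW : ∀ {X : Subgroup G}, X ≤ W → Odd (Nat.card X) := fun h =>
    hW.of_dvd_nat (card_dvd_of_le h)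
  have hinvN : ∀ y ∈ N, y * (u * y * u) ∈ S :=
    inverts_mod hSN (hoddW (inf_le_left.trans hQ.1)) huu
      (fun y hy => by have := hcN u huA y hy; rwa [hui] at this)
      (fun y hy => by have := hcS u huA y hy; rwa [hui] at this) hNS
      fun y hy hy' => mem_inf.2 ⟨hy.1, hG.smul_eq_of_commute hu (by
        calc u * y = u * y * (u * u) := by rw [huu, mul_one]
          _ = u * y * u * u := by group
          _ = y * u := by rw [hy'])⟩
  -- an inverted element acts trivially on `N / S`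
  have hgen : ∀ j ∈ P, u * j * u⁻¹ = j⁻¹ → ∀ y ∈ N, j * y * j⁻¹ * y⁻¹ ∈ S := by
    intro j hjP hji
    have hjA : j ∈ A := hVA (mem_invGen hjP hji)
    have hjS : ∀ y ∈ S, j⁻¹ * y * j ∈ S := fun y hy => by
      have := hcS _ (inv_mem hjA) y hy
      rwa [inv_inv] at this
    have hsq : ∀ y ∈ N, j * j * y * (j * j)⁻¹ * y⁻¹ ∈ S := by
      intro y hy
      set z := j * y * j⁻¹ with hz
      have hzN : z ∈ N := hcN j hjA y hy
      set z' := j * z * j⁻¹ with hz'
      have hz'N : z' ∈ N := hcN j hjA z hzN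
      have hA1 := hinvN z' hz'N
      have hB1 := hinvN z hzN
      have hjv : u * j * u = j⁻¹ := by rw [← hji, hui]
      have hjv' : u * j⁻¹ * u = j := by
        calc u * j⁻¹ * u = u * (u * j * u) * u := by rw [hjv]
          _ = (u * u) * j * (u * u) := by group
          _ = j := by rw [huu, one_mul, mul_one]
      have hconj : u * z' * u = j⁻¹ * (u * z * u) * j := by
        rw [hz']
        calc u * (j * z * j⁻¹) * u = u * j * (u * u) * z * (u * u) * j⁻¹ * u := by
              rw [huu]; group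
          _ = (u * j * u) * (u * z * u) * (u * j⁻¹ * u) := by group
          _ = _ := by rw [hjv, hjv']
      have h1 : z' * y⁻¹ = z' * (u * z' * u) * (j⁻¹ * (z * (u * z * u))⁻¹ * j) := by
        rw [hconj, hz]
        group
      have h2 := mul_mem hA1 (hjS _ (inv_mem hB1))
      rw [← h1] at h2
      convert h2 using 1
      rw [hz', hz]
      group
    have hpow : ∀ n : ℕ, ∀ y ∈ N, (j * j) ^ n * y * ((j * j) ^ n)⁻¹ * y⁻¹ ∈ S := by
      intro n
      induction n with
      | zero => intro y _; simp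
      | succ n ih =>
        rw [pow_succ]
        exact trivial_mul (fun y hy => hcS _ (pow_mem (mul_mem hjA hjA) n) y hy) ih hsq
    obtain ⟨k, hk⟩ : Odd (orderOf j) := by
      obtain ⟨n, hn⟩ := IsPGroup.iff_orderOf.1 hPp ⟨j, hjP⟩
      rw [Subgroup.orderOf_mk] at hn
      rw [hn]
      exact (hp.out.odd_of_ne_two hp2).pow
    have hroot : (j * j) ^ (k + 1) = j := by
      rw [← pow_two, ← pow_mul, show 2 * (k + 1) = orderOf j + 1 by omega, pow_succ,
        pow_orderOf_eq_one, one_mul]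
    intro y hy
    have := hpow (k + 1) y hy
    rwa [hroot] at this
  have hall : ∀ v ∈ V, ∀ y ∈ N, v * y * v⁻¹ * y⁻¹ ∈ S := by
    intro v hv
    refine closure_induction (p := fun v _ => ∀ y ∈ N, v * y * v⁻¹ * y⁻¹ ∈ S) ?_ ?_ ?_ ?_ hv
    · exact fun j hj => hgen j hj.1 hj.2
    · intro y _; simp
    · intro g h hg _ hg' hh'
      exact trivial_mul (fun y hy => hcS g (hVA hg) y hy) hg' hh'
    · intro g hg hg' y hy
      have hzN := hcN _ (inv_mem (hVA hg)) y hy
      have := inv_mem (hg' _ hzN)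
      convert this using 1
      group
  obtain ⟨n, hn, hnx⟩ := Coprime.exists_fixed_mul (A := V) (N := S) (k := x) (hVA.trans hAS)
    (hVcop.coprime_dvd_right (card_dvd_of_le (inf_le_left.trans hQ.1)))
    (Or.inr (LocalTools.isSolvable_odd (hoddW (inf_le_left.trans hQ.1))))
    (fun v hv => hall v hv x hxN')
  refine ⟨n * x, mul_mem (hQ.1 (mem_inf.1 hn).1) (hQ.1 hxQ), hnx, fun h => hxS ?_⟩
  refine mem_subgroupOf.2 (mem_inf.2 ⟨hxQ, ?_⟩)
  have h' : n * x ∈ stabilizer G c := h
  have := mul_mem (inv_mem (mem_inf.1 hn).2) h'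
  rwa [inv_mul_cancel_left] at this

end Cfsg.Agent.Lib.BenderOne.NoBadProof
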