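import Cfsg.Agent.Lib.BenderOne.Midpoint
import Cfsg.Agent.Lib.BenderOne.NoBadDefs

/-!
# Bender's theorem, part I, node B: the midpoint lemma

See `notes/bender_nobad_proof.md`, (MID).
-/

set_option autoImplicit false

namespace Cfsg.Agent.Lib.BenderOne.NoBadProof

open Subgroup MulAction
open Cfsg.Agent.Lib.Involutions.Basic Cfsg.Agent.Lib.BenderOne20

variable {G Ω : Type*} [Group G] [MulAction G Ω] [Finite G]

/-- (MID) in the form used for node B. -/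
theorem exists_midpoint_block (hG : OneFix G Ω) {N : Subgroup G}
    (hN : ¬ ∃ a ∈ N, ∃ b ∈ N, orderOf a = 2 ∧ orderOf b = 2 ∧ a ≠ b ∧ a * b = b * a)
    {c e : Ω} {u w : G} (hu : u ∈ invAt G c) (huN : u ∈ N) (hw : w ∈ invAt G e) (hwN : w ∈ N)
    (hec : e ≠ c) :
    ∃ R : Subgroup G, R ≤ N ∧ (∃ r ∈ R, r • c ≠ c) ∧
      (∀ r ∈ R, ∀ g ∈ N, g • r • c = r • c → g • u • r • c = u • r • c → g • c = c) ∧
      (∀ r ∈ R, ∃ s ∈ R, s • s • c = r • c ∧ u • s • c = s⁻¹ • c) := by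
  obtain ⟨R, hRN, hodd, hmove, hinv, hB⟩ := Midpoint.exists_mid_orbit hG
    (fun a ha b hb ha2 hb2 hab => by_contra fun hne => hN ⟨a, ha, b, hb, ha2, hb2, hne, hab⟩)
    hu huN ⟨w, hwN, fun h => hec (hG.eq_of_fix hw.1 hw.2 h)⟩
  refine ⟨R, hRN, hmove, fun r hr g hg h1 h2 => hB.smul_center hu huN hg ⟨r, hr, rfl⟩ h1 h2,
    fun r hr => ?_⟩
  obtain ⟨k, hk⟩ := hodd.of_dvd_nat (Subgroup.orderOf_dvd_natCard _ hr)
  refine ⟨r ^ (k + 1), pow_mem hr _, ?_, hinv _ (pow_mem hr _)⟩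
  rw [smul_smul, ← pow_add, show k + 1 + (k + 1) = orderOf r + 1 by omega, pow_succ,
    pow_orderOf_eq_one, one_mul]

end Cfsg.Agent.Lib.BenderOne.NoBadProof
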