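import Cfsg.Agent.Lib.BenderOne.SplitFacts
import Cfsg.Agent.Lib.BenderOne20.Bridge

/-!
# Bender's theorem, part I: the statements of S1220, S1221 and S1223 from `PropSplit`
-/

set_option autoImplicit false
set_option linter.style.haveILetI false

namespace Cfsg.Agent.Lib.BenderOne

open Subgroup MulAction
open Cfsg.Agent.Lib.Involutions.Basic Cfsg.Agent.Lib.Involutions.StronglyEmbedded
open Cfsg.Agent.Lib.BenderOne20 (HasFour)

universe u

variable {G : Type u} [Group G] [Finite G] {H : Subgroup G}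

/-- The core of a strongly embedded subgroup has no involution. -/
theorem not_mem_core (hSE : Cfsg.IsStronglyEmbedded H) {t : G} (ht : orderOf t = 2) :
    t ∉ H.normalCore := by
  intro h
  obtain ⟨g, -, hg⟩ := SetLike.exists_of_lt (lt_top_iff_ne_top.2 hSE.1)
  exact hg (mem_of_conj_mem hSE ht (normalCore_le H h) (h g))

theorem core_le_oddCore (hSE : Cfsg.IsStronglyEmbedded H) : H.normalCore ≤ Cfsg.oddCore G :=
  BenderOne20.le_oddCore ((odd_card_iff_no_invol _).2 fun _ hx h2 => not_mem_core hSE h2 hx)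

/-- The quotient by the core. -/
theorem quotient_core (hSE : Cfsg.IsStronglyEmbedded H) (hfour : HasFour H) :
    Cfsg.IsStronglyEmbedded (H.map (QuotientGroup.mk' H.normalCore)) ∧
      HasFour (H.map (QuotientGroup.mk' H.normalCore)) ∧
      (H.map (QuotientGroup.mk' H.normalCore)).normalCore = ⊥ := by
  set K := H.normalCore with hK
  set f := QuotientGroup.mk' K with hf
  have hker : f.ker = K := QuotientGroup.ker_mk' K
  have hcomap : (H.map f).comap f = H := by
    rw [comap_map_eq, hker, sup_eq_left.2 (normalCore_le H)]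
  have hmem : ∀ {x : G}, f x ∈ H.map f → x ∈ H := fun {x} hx => hcomap ▸ (mem_comap.2 hx)
  have hlift : ∀ {x : G}, orderOf x = 2 → orderOf (f x) = 2 := fun {x} hx => by
    refine orderOf_eq_prime ?_ fun h => not_mem_core hSE hx ?_
    · rw [← map_pow, ← hx, pow_orderOf_eq_one, map_one]
    · rw [← MonoidHom.mem_ker, hker] at h; exact h
  refine ⟨⟨fun h => hSE.1 ?_, ?_, fun g hg => ?_⟩, ?_, ?_⟩
  · rw [← hcomap, h, comap_top]
  · obtain ⟨t, ht⟩ := exists_invol (G := H) hSE.2.1
    rw [even_iff_two_dvd, ← hlift (x := (t : G)) (by rw [orderOf_coe, ht])]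
    exact orderOf_dvd_natCard _ (mem_map_of_mem f t.2)
  · obtain ⟨g, rfl⟩ := QuotientGroup.mk'_surjective K g
    have hg' : g ∉ H := fun h => hg (mem_map_of_mem f h)
    refine (hSE.2.2 g hg').of_dvd_nat ?_
    have hle : H.map f ⊓ (H.map f).map (MulAut.conj (f g)).toMonoidHom ≤
        (H ⊓ H.map (MulAut.conj g).toMonoidHom).map f := by
      intro y hy
      obtain ⟨hy1, hy2⟩ := mem_inf.1 hy
      obtain ⟨x, rfl⟩ := QuotientGroup.mk'_surjective K y
      refine mem_map_of_mem f (mem_inf.2 ⟨hmem hy1, mem_conj_iff.2 (hmem ?_)⟩)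
      rw [mem_conj_iff] at hy2
      rw [map_mul, map_mul, map_inv]
      exact hy2
    exact (card_dvd_of_le hle).trans (card_map_dvd _ f)
  · obtain ⟨a, ha, b, hb, ha2, hb2, hne, hab⟩ := hfour
    refine ⟨f a, mem_map_of_mem f ha, f b, mem_map_of_mem f hb, hlift ha2, hlift hb2, fun h => ?_,
      by rw [← map_mul, hab, map_mul]⟩
    have h2 : orderOf (a⁻¹ * b) = 2 := by
      rw [invol_inv ha2, invol_iff]
      refine ⟨?_, fun h1 => hne ?_⟩
      · calc a * b * (a * b) = a * (b * a) * b := by group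
          _ = a * (a * b) * b := by rw [hab]
          _ = (a * a) * (b * b) := by group
          _ = 1 := by rw [invol_mul_self ha2, invol_mul_self hb2, one_mul]
      · rw [eq_inv_of_mul_eq_one_left h1, invol_inv hb2]
    exact not_mem_core hSE h2 (QuotientGroup.eq.1 h)
  · rw [eq_bot_iff]
    intro y hy
    obtain ⟨x, rfl⟩ := QuotientGroup.mk'_surjective K y
    rw [mem_bot, ← MonoidHom.mem_ker, hker]
    intro g
    apply hmem
    rw [map_mul, map_mul, map_inv]
    exact hy (f g)

/-- The statement of S1220. -/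
theorem dichotomy (hP : PropSplit.{u}) (hSE : Cfsg.IsStronglyEmbedded H) :
    (∀ g₁ g₂ : G, g₁ ∉ H → g₂ ∉ H → ∃ h ∈ H, g₂⁻¹ * (h * g₁) ∈ H) ∨
      ((∀ S : Sylow 2 G, IsCyclic S ∨
          ∃ m : ℕ, 1 ≤ m ∧ Nonempty ((S : Subgroup G) ≃* QuaternionGroup (2 ^ m))) ∧
        Cfsg.oddCore G ⊔ H = ⊤) := by
  by_cases hfour : HasFour H
  · obtain ⟨h1, h2, h3⟩ := quotient_core hSE hfour
    have hT := twoTrans_of_split (hP _ _ h1 h2 h3)
    refine Or.inl fun g₁ g₂ hg₁ hg₂ => ?_
    set f := QuotientGroup.mk' H.normalCore with hf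
    have hcomap : (H.map f).comap f = H := by
      rw [comap_map_eq, QuotientGroup.ker_mk', sup_eq_left.2 (normalCore_le H)]
    have hmem : ∀ {x : G}, f x ∈ H.map f → x ∈ H := fun {x} hx => hcomap ▸ (mem_comap.2 hx)
    obtain ⟨y, ⟨h, hh, rfl⟩, hh'⟩ := hT (f g₁) (f g₂) (fun hc => hg₁ (hmem hc))
      (fun hc => hg₂ (hmem hc))
    exact ⟨h, hh, hmem (by simpa using hh')⟩
  · exact Or.inr ⟨BenderOne20.cyclic_or_quaternion hSE hfour, BenderOne20.sup_eq_top hSE hfour⟩

/-- The statement of S1221. -/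
theorem core_le (hP : PropSplit.{u}) (hSE : Cfsg.IsStronglyEmbedded H) :
    (Cfsg.oddCore ↥H).map H.subtype ≤ Cfsg.oddCore G := by
  by_cases hfour : HasFour H
  · obtain ⟨h1, h2, h3⟩ := quotient_core hSE hfour
    have hbot := oddCore_eq_bot_of_split h3 (hP _ _ h1 h2 h3)
    refine le_trans ?_ (core_le_oddCore hSE)
    rintro _ ⟨x, hx, rfl⟩
    have h4 : ((QuotientGroup.mk' H.normalCore).subgroupMap H) x ∈
        Cfsg.oddCore ↥(H.map (QuotientGroup.mk' H.normalCore)) :=
      Cores.map_pPrimeCore_le _ (MonoidHom.subgroupMap_surjective _ _) ⟨x, hx, rfl⟩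
    rw [hbot, mem_bot] at h4
    exact (QuotientGroup.eq_one_iff _).1 (congrArg Subtype.val h4)
  · exact BenderOne20.core_le_of_sup_eq_top (BenderOne20.sup_eq_top hSE hfour)

omit [Finite G] in
/-- If `u` inverts `j` and `w` centralises it and `u w` has odd order, then `j ^ 2 = 1`. -/
theorem sq_eq_one_of_odd_product {u w j : G} (hodd : Odd (orderOf (u * w)))
    (hu : u * j * u⁻¹ = j⁻¹) (hw : w * j * w⁻¹ = j) : j * j = 1 := by
  set r := u * w with hr
  have h1 : r * j * r⁻¹ = j⁻¹ := by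
    rw [hr]
    calc u * w * j * (u * w)⁻¹ = u * (w * j * w⁻¹) * u⁻¹ := by group
      _ = j⁻¹ := by rw [hw, hu]
  have h2 : Commute (r ^ 2) j := by
    have : r * j⁻¹ * r⁻¹ = j := by
      have h3 := congrArg (fun x => x⁻¹) h1
      simpa [mul_assoc] using h3
    have h4 : r ^ 2 * j * (r ^ 2)⁻¹ = j := by
      calc r ^ 2 * j * (r ^ 2)⁻¹ = r * (r * j * r⁻¹) * r⁻¹ := by rw [pow_two]; group
        _ = j := by rw [h1, this]
    exact mul_inv_eq_iff_eq_mul.1 h4
  obtain ⟨k, hk⟩ := hodd
  have h5 : Commute r j := by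
    have : (r ^ 2) ^ (k + 1) = r := by
      rw [← pow_mul, show 2 * (k + 1) = orderOf r + 1 by omega, pow_succ, pow_orderOf_eq_one,
        one_mul]
    exact this ▸ h2.pow_left (k + 1)
  rw [h5.eq, mul_inv_cancel_right] at h1
  exact mul_eq_one_iff_eq_inv.2 h1

/-- The statement of S1223. -/
theorem odd_centralizer (hP : PropSplit.{u}) (hSE : Cfsg.IsStronglyEmbedded H)
    (hcore : H.normalCore = ⊥) {u : G} (hu : orderOf u = 2) (huH : u ∉ H) {j : G}
    (hj : j ∈ H ⊓ H.map (MulAut.conj u).toMonoidHom) (hj1 : j ≠ 1)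
    (hinv : u * j * u⁻¹ = j⁻¹) : Odd (Nat.card (Subgroup.centralizer ({j} : Set G))) := by
  refine (odd_card_iff_no_invol _).2 fun w hw hw2 => hj1 ?_
  have hjodd : Odd (orderOf j) :=
    (hSE.2.2 u huH).of_dvd_nat (Subgroup.orderOf_dvd_natCard _ hj)
  suffices j * j = 1 by
    have h2 : orderOf j ∣ 2 := orderOf_dvd_of_pow_eq_one (by rw [pow_two, this])
    exact orderOf_eq_one_iff.1 (Nat.Coprime.eq_one_of_dvd (Nat.coprime_two_right.2 hjodd) h2)
  have hwj : w * j * w⁻¹ = j := by
    rw [← (Subgroup.mem_centralizer_singleton_iff.1 hw : w * j = j * w).symm]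
    group
  by_cases hfour : HasFour H
  · have hG := BenderOne20.oneFix_of_stronglyEmbedded hSE
    obtain ⟨x, hx⟩ := hG.exists_fix hw2
    by_cases hux : u • x = x
    · -- both fix `x`, so a conjugate of the pair violates (F)
      exfalso
      refine hj1 ?_
      have hNB := noBad_of_split hSE (hP G H hSE hfour hcore)
      have hjx : j • x = x := hG.smul_eq_of_commute ⟨hw2, hx⟩
        (Subgroup.mem_centralizer_singleton_iff.1 hw)
      induction x using QuotientGroup.induction_on with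
      | H g =>
        rw [smul_coset_eq_iff] at hux hjx
        have hgH : g⁻¹ ∉ H := fun hg => huH (by
          have h := mul_mem (mul_mem (inv_mem hg) hux) hg
          simpa [mul_assoc] using h)
        have h6 : g⁻¹ * j * g = 1 := hNB (g⁻¹ * u * g) (g⁻¹ * j * g) g⁻¹
          (by have := orderOf_conj_eq g⁻¹ u; rw [inv_inv] at this; rw [this, hu]) hux hjx hgH
          (by simpa [mul_assoc] using (mem_inf.1 hj).1)
          (by
            calc g⁻¹ * u * g * (g⁻¹ * j * g) * (g⁻¹ * u * g)⁻¹ = g⁻¹ * (u * j * u⁻¹) * g := by group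
              _ = (g⁻¹ * j * g)⁻¹ := by rw [hinv]; group)
        have := congrArg (fun z => g * z * g⁻¹) h6
        simpa [mul_assoc] using this
    · obtain ⟨y, hy⟩ := hG.exists_fix hu
      refine sq_eq_one_of_odd_product (hG.odd_mul ⟨hu, hy⟩ ⟨hw2, hx⟩ ?_) hinv hwj
      intro h; exact hux (h ▸ hy)
  · -- without a four group all involutions are congruent modulo the odd core
    haveI : Fact (Nat.Prime 2) := ⟨Nat.prime_two⟩
    refine sq_eq_one_of_odd_product ?_ hinv hwj
    have hpg : IsPGroup 2 (Subgroup.zpowers u) :=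
      IsPGroup.of_card (n := 1) (by rw [Nat.card_zpowers, hu, pow_one])
    obtain ⟨S, hS⟩ := hpg.exists_le_sylow
    obtain ⟨N, hN, hodd, hcomm⟩ := ZStar.UniqueCase.zstar S u hu (hS (mem_zpowers _)) fun g hg =>
      BenderOne20.sylow_unique_invol hSE hfour S _ _ hg (hS (mem_zpowers _))
        ((orderOf_conj_eq g _).trans hu) hu
    obtain ⟨c, hc⟩ := isConj_iff.1 (isConj_involutions hSE hu hw2)
    refine hodd.of_dvd_nat (N.orderOf_dvd_natCard ?_)
    have h := hcomm c
    rw [invol_inv hu] at h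
    have h7 : u * c * u * c⁻¹ = u * (c * u * c⁻¹) := by group
    rw [h7, hc] at h
    exact h

end Cfsg.Agent.Lib.BenderOne
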